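import Cfsg.Prelude.Def_Spor_Ly
import Cfsg.Agent.Lib.Comp.Ly.Base
import Cfsg.Agent.Lib.Comp.Subst3
import Cfsg.Agent.Lib.Comp.Bridge

/-! The presented Lyons group in terms of twelve letters. -/

set_option maxRecDepth 100000
set_option linter.constructorNameAsVariable false

namespace Cfsg.Lib.Comp

open Cfsg.Spor

/-- A signed word with the generators replaced by words. -/
noncomputable def xl {α : Type} (iv : ℕ → ℕ) (wd : α → List ℕ) (l : List (α × Bool)) : List ℕ :=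
  l.flatMap fun p => cond p.2 (wd p.1) (invA iv (wd p.1) [])

theorem ev_xl {α : Type} {Γ : Type*} [Group Γ] {γ : ℕ → Γ} {iv : ℕ → ℕ} (h : IvOK γ iv) {wd : α → List ℕ}
    (hw : ∀ a, ∀ x ∈ wd a, x < 64) {φ : α → Γ} {l : List (α × Bool)} (hl : ∀ p ∈ l, φ p.1 = ev γ (wd p.1)) :
    FreeGroup.lift φ (FreeGroup.mk l) = ev γ (xl iv wd l) := by
  induction l with
  | nil => rfl
  | cons p t ih =>
    have e : FreeGroup.mk (p :: t) = FreeGroup.mk [p] * FreeGroup.mk t := (FreeGroup.mul_mk (L₁ := [p])).symm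
    have e2 : xl iv wd (p :: t) = cond p.2 (wd p.1) (invA iv (wd p.1) []) ++ xl iv wd t := List.flatMap_cons
    rw [e, map_mul, ih fun q hq => hl q (List.mem_cons_of_mem _ hq), e2, ev_append, FreeGroup.lift_mk]
    congr 1
    have := hl p List.mem_cons_self
    obtain ⟨a, b⟩ := p
    cases b
    · simp only [List.map_cons, List.map_nil, List.prod_cons, List.prod_nil, mul_one, cond_false]
      rw [ev_invA h (hw a), ev_nil, mul_one, this]
    · simpa using this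

namespace Ly

open Spor.Ly

def lts : List Gen := [.a, .b, .c, .d, .e, .c2, .c3, .c4, .c5, .a2, .a3, .z]

def D : List (Gen × Bool) := lts.flatMap fun g => [(g, true), (g, false)]

def all : List Gen := [.a, .b, .c, .d, .z, .e, .a1, .a2, .a3, .a4, .c1, .c2, .c3, .c4, .c5, .u, .x23, .x24, .x25, .x29,
  .x47, .x96, .x129, .x162, .x163, .x164, .x165, .x166, .x167, .x168, .x169, .x364, .x365, .x366, .x367, .x368, .x369,
  .x370, .x371]

theorem hall : ∀ x, x ∈ all := by intro x; cases x <;> decide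

def wds : List (List ℕ) := [[1], [3], [5], [7], [23], [9], [1], [19], [21], [4,4,1,3,3], [5], [11], [13], [15], [17], [1,1], [7], [8], [3,3,2,4,2,3,3,6,1,5,2,6,7,6,3,3,2,5,3], [1,3,2,3,3,2,3,3,6,1,5,3,5,4,7,5,4,4,7,5,3,5], [6,8,2,6,2,3,6,8], [3,7], [8,4], [2,4,2,3,6,4,1,6,3,1], [4,4,1,5,2,3,5,3], [2,4,2,5,1,3,1], [4,2,3,5,4,1,3], [3,3,2,4,5,3,1,5,4,4,6], [2,2,2], [3,2,4,2,2], [1,3,3,1,4,4,2], [2,7,4,6,2,3,6,8,3,6,4,2,6,1,4,1,3,1,4], [1,4,4,2,5,3,6,3,2,6,6,7,5,1,5,2,5,4,8], [3,1,4,2,4,4,2,4,5,3,3,5,3,7,5,4,4,7,5,3,5], [6,4,6,8,3,3,6,8,4,6,4,4,6,3,1,3,3,1,3,2,4], [2,6,8,1,6,4,1,6,8,2,6,1,5,4,4,6,4,2,4,4], [2,6,8,3,2,4,6,8,3,2,4,6,4,1,4,4,1,4], [8,1,5,3,5,2,6,8,1,4,2,5,2,4,4,2,3,2], [6,2,5,3,6,8,5,2,5,1,5,4,2,4,2,3]]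

def wd (g : Gen) : List ℕ := wds.getD (List.idxOf g all) []

noncomputable def gam : ℕ → Spor.Ly := cval edges extra D

theorem wd_lt : ∀ a, ∀ x ∈ wd a, x < 64 := fun a => by
  have : ∀ a ∈ all, ∀ x ∈ wd a, x < 64 := by decide +kernel
  exact this a (hall a)

theorem gam_iv : IvOK gam iv := by
  refine ⟨rfl, fun x hx => ?_⟩
  have : ∀ x < 64, iv x < 64 ∧ dd D (iv x) = (dd D x).map (fun p => (p.1, !p.2)) := by decide +kernel
  refine ⟨(this x hx).1, ?_⟩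
  unfold gam cval
  rw [(this x hx).2]
  rcases dd D x with _ | ⟨a, _ | _⟩ <;> simp

theorem rel_one {s : FreeGroup Gen} (h : s ∈ extra) :
    FreeGroup.lift (fun g => (PresentedGroup.of g : Spor.Ly)) (FreeGroup.mk s.toWord) = 1 := by
  rw [FreeGroup.mk_toWord]
  have e : FreeGroup.lift (fun g => (PresentedGroup.of g : Spor.Ly)) = PresentedGroup.mk _ :=
    FreeGroup.ext_hom _ _ fun a => FreeGroup.lift_apply_of
  rw [e]
  exact PresentedGroup.one_of_mem (Or.inr h)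

theorem of_lts : ∀ g ∈ lts, (PresentedGroup.of g : Spor.Ly) = ev gam (wd g) := fun g hg => by
  have : ∀ g ∈ lts, ∃ x ∈ L, wd g = [x] ∧ dd D x = some (g, true) := by decide +kernel
  obtain ⟨x, -, h1, h2⟩ := this g hg
  rw [h1, ev_single, gam, cval, h2]
  rfl

theorem of_eq (g : Gen) : (PresentedGroup.of g : Spor.Ly) = ev gam (wd g) := by
  have : ∀ g ∈ all, g ∈ lts ∨ ∃ s ∈ extra, s.toWord = (g, true) :: s.toWord.tail ∧ (∀ p ∈ s.toWord.tail, p.1 ∈ lts) ∧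
      frd iv (wd g ++ xl iv wd s.toWord.tail) = [] := by decide +kernel
  rcases this g (hall g) with h | ⟨s, h1, h2, h3, h4⟩
  · exact of_lts g h
  · have a1 := rel_one h1
    have a2 := ev_frd gam_iv (wd g ++ xl iv wd s.toWord.tail)
    rw [h4, ev_nil, ev_append] at a2
    rw [h2, show FreeGroup.mk ((g, true) :: s.toWord.tail) = FreeGroup.of g * FreeGroup.mk s.toWord.tail from
      (FreeGroup.mul_mk (L₁ := [(g, true)])).symm, map_mul, ev_xl gam_iv wd_lt fun p hp => of_lts _ (h3 p hp), FreeGroup.lift_apply_of] at a1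
    exact mul_right_cancel (a1.trans a2)

theorem gam_rel : Rels gam R := fun r hr => by
  have : ∀ r ∈ R, frd iv (pw r.1 r.2) = [] ∨ ∃ s ∈ extra, pw r.1 r.2 = frd iv (xl iv wd s.toWord) := by decide +kernel
  rw [← ev_pw]
  rcases this r hr with h | ⟨s, h1, h2⟩
  · rw [← ev_frd gam_iv, h, ev_nil]
  · rw [h2, ev_frd gam_iv, ← ev_xl gam_iv wd_lt fun p _ => of_eq p.1, rel_one h1]

theorem gam_top : cl gam L = ⊤ := by
  rw [eq_top_iff, ← PresentedGroup.closure_range_of, Subgroup.closure_le]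
  rintro _ ⟨g, rfl⟩
  have : ∀ a ∈ all, ∀ x ∈ wd a, x ∈ L := by decide +kernel
  rw [of_eq]
  exact ev_mem fun x hx => mem_cl (this g (hall g) x hx)

theorem gam_hom {Δ : Type*} [Group Δ] {δ : ℕ → Δ} (h1 : IvOK δ iv) (h2 : Rels δ R) :
    ∃ f : Spor.Ly →* Δ, ∀ x ∈ L, f (gam x) = δ x := by
  have a1 : ∀ s ∈ extra, frd iv (xl iv wd s.toWord) = [] ∨ ∃ r ∈ R, pw r.1 r.2 = frd iv (xl iv wd s.toWord) := by
    decide +kernel
  have a2 : ∀ s ∈ coxRelators edges ∪ {r | r ∈ extra}, FreeGroup.lift (fun g => ev δ (wd g)) s = 1 := by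
    rintro s (⟨x, hx, -⟩ | hs)
    · simp [coxNodes, edges] at hx
    · rw [← FreeGroup.mk_toWord (x := s), ev_xl h1 wd_lt fun _ _ => rfl, ← ev_frd h1]
      rcases a1 s hs with h | ⟨r, hr, h⟩
      · rw [h, ev_nil]
      · rw [← h, ev_pw, h2 r hr]
  refine ⟨PresentedGroup.toGroup a2, fun x hx => ?_⟩
  have a3 : ∀ x ∈ L, x < 64 ∧ ∃ g ∈ lts, (dd D x = some (g, true) ∧ wd g = [x]) ∨
      (dd D x = some (g, false) ∧ wd g = [iv x]) := by decide +kernel
  obtain ⟨b, g, -, ⟨b1, b2⟩ | ⟨b1, b2⟩⟩ := a3 x hx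
  · rw [gam, cval, b1]
    exact PresentedGroup.toGroup.of a2 |>.trans (by rw [b2, ev_single])
  · rw [gam, cval, b1]
    change PresentedGroup.toGroup a2 (PresentedGroup.of g)⁻¹ = _
    rw [map_inv, PresentedGroup.toGroup.of, b2, ev_single, (h1.2 x b).2, inv_inv]

/-- The subgroup of the statements. -/
theorem sub_eq : (Subgroup.closure ({a, b, c, d} : Set (FreeGroup Gen))).map
    (PresentedGroup.mk (coxRelators edges ∪ {r | r ∈ extra})) = cl gam LN := by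
  have e1 : (Subgroup.closure ({a, b, c, d} : Set (FreeGroup Gen))).map
      (PresentedGroup.mk (coxRelators edges ∪ {r | r ∈ extra})) = cl gam [1, 3, 5, 7] := by
    rw [MonoidHom.map_closure]
    unfold cl
    congr 1
    ext y
    simp only [Set.image_insert_eq, Set.image_singleton, Set.mem_insert_iff, Set.mem_singleton_iff, Set.mem_image,
      Set.mem_ofPred_eq, List.mem_cons, List.not_mem_nil, or_false, exists_eq_or_imp, exists_eq_left, @eq_comm _ y]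
    exact Iff.rfl
  rw [e1]
  refine le_antisymm (cl_mono (by decide)) (cl_le.2 ?_)
  have h1 : ∀ S T : List ℕ, (∀ y ∈ S, gam y ∈ cl gam [1, 3, 5, 7]) → (∀ x ∈ T, x ∈ S ∨ (x < 64 ∧ iv x ∈ S) ∨
      ∃ r ∈ R, r = (x :: r.1.tail, 0) ∧ ∀ y ∈ r.1.tail, y ∈ S) → ∀ y ∈ T, gam y ∈ cl gam [1, 3, 5, 7] := by
    intro S T hS hT y hy
    rcases hT y hy with h | ⟨h, h'⟩ | ⟨r, hr, h, h'⟩
    · exact hS y h
    · rw [← inv_mem_iff, ← (gam_iv.2 y h).2]; exact hS _ h'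
    · have := gam_rel r hr
      rw [h, zero_add, pow_one, ev_cons, mul_eq_one_iff_eq_inv] at this
      rw [this, inv_mem_iff]
      exact ev_mem fun x hx => hS x (h' x hx)
  exact h1 [1, 2, 3, 4, 5, 6, 7, 8, 9, 10, 11, 12, 13, 14, 15, 16, 17, 19, 20, 21, 22] _
    (h1 [1, 2, 3, 4, 5, 6, 7, 8, 9, 10, 11, 12, 13, 14, 15, 16, 19, 20, 21, 22] _
    (h1 [1, 2, 3, 4, 5, 6, 7, 8, 9, 11, 13, 15, 19, 21] _ (h1 [1, 2, 3, 4, 5, 6, 7, 8] _ (h1 [1, 3, 5, 7] _
      (fun _ => mem_cl) (by decide +kernel)) (by decide +kernel)) (by decide +kernel)) (by decide +kernel))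
    (by decide +kernel)

end Ly

end Cfsg.Lib.Comp
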