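import Cfsg.Agent.Lib.Comp.Ly.SubD

set_option maxRecDepth 100000
set_option Elab.async false

namespace Cfsg.Lib.Comp.Ly

theorem mr8 : rel7 VM ((RM.drop 24).take 2) = true := by decide +kernel

theorem mr10 : rel7 VM ((RM.drop 27).take 2) = true := by decide +kernel

theorem mr5 : rel7 VM ((RM.drop 18).take 1) = true := by decide +kernel

theorem mr3 : rel7 VM ((RM.drop 13).take 3) = true := by decide +kernel

end Cfsg.Lib.Comp.Ly
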