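import Cfsg.Agent.Lib.Comp.Ly.SubD

set_option maxRecDepth 100000
set_option Elab.async false

namespace Cfsg.Lib.Comp.Ly

theorem ar1 : rel7 VA ((RA.drop 16).take 15) = true := by decide +kernel

theorem mr6 : rel7 VM ((RM.drop 19).take 2) = true := by decide +kernel

theorem mr4 : rel7 VM ((RM.drop 16).take 2) = true := by decide +kernel

theorem mr11 : rel7 VM ((RM.drop 29).take 1) = true := by decide +kernel

end Cfsg.Lib.Comp.Ly
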