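import Cfsg.Agent.Lib.Comp.Ly.SubD

set_option maxRecDepth 100000
set_option Elab.async false

namespace Cfsg.Lib.Comp.Ly

theorem ar2 : rel7 VA ((RA.drop 31).take 13) = true := by decide +kernel

theorem ar0 : rel7 VA ((RA.drop 0).take 16) = true := by decide +kernel

theorem mr7 : rel7 VM ((RM.drop 21).take 3) = true := by decide +kernel

theorem mr1 : rel7 VM ((RM.drop 8).take 2) = true := by decide +kernel

theorem ar3 : rel7 VA ((RA.drop 44).take 1) = true := by decide +kernel

end Cfsg.Lib.Comp.Ly
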