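import Cfsg.Agent.Lib.Comp.Ly.SubR0
import Cfsg.Agent.Lib.Comp.Ly.SubR1
import Cfsg.Agent.Lib.Comp.Ly.SubR2
import Cfsg.Agent.Lib.Comp.Ly.SubR3
import Cfsg.Agent.Lib.Comp.LyP.Mat
import Cfsg.Agent.Lib.Comp.FixCt
import Cfsg.Agent.Lib.Comp.XCen
import Cfsg.Agent.S4278
import Cfsg.Agent.S4279

/-! The centraliser of an involution in the Lyons group. -/

set_option maxRecDepth 100000
set_option maxHeartbeats 400000
set_option Elab.async false

namespace Cfsg.Lib.Comp.Ly

open MulAction Subgroup Cfsg.Lib.Linear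
open scoped commutatorElement

/-- The involution `a ^ 4`. -/
noncomputable def tt : Spor.Ly := ev gam [1, 1, 1, 1]

theorem ord_of {w : List ℕ} {p : ℕ} [Fact p.Prime] (h1 : weq7 (pw w (p - 1)) [] = true) {i j : Fin 111}
    (h2 : wne w [] i j = true) : orderOf (ev gam w) = p := orderOf_eq_prime (by
  have := eq_of_weq7 h1
  rwa [ev_pw, Nat.sub_add_cancel (Fact.out : p.Prime).pos] at this) (ne_of_wne h2)

theorem comm_of {u v : List ℕ} (h : weq7 (apd u v) (apd v u) = true) : Commute (ev gam u) (ev gam v) := by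
  have := eq_of_weq7 h
  rwa [apd_eq, apd_eq, ev_append, ev_append] at this

theorem t_ord : orderOf tt = 2 := ord_of (by decide +kernel) (i := 0) (j := 0) (by decide +kernel)

theorem t_mem : tt ∈ HH := ev_mem fun x hx => mem_cl (by revert x; decide)

theorem isoG : Nonempty (HH ≃* Lie.chevG2.group (ZMod 5)) := by
  obtain ⟨e⟩ := isoP
  obtain ⟨f⟩ := LyP.iso
  exact ⟨e.symm.trans f⟩

theorem conjH {s u : HH} (hs : orderOf s = 2) (hu : orderOf u = 2) : IsConj s u := by
  obtain ⟨e⟩ := isoG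
  simpa using e.symm.toMonoidHom.map_isConj (Agent.S4278.result (by decide) (e s) (e u) (by rwa [e.orderOf_eq])
    (by rwa [e.orderOf_eq]))

theorem cenH {s : HH} (hs : orderOf s = 2) : Nat.card (centralizer {s}) = 14400 := by
  obtain ⟨e⟩ := isoG
  have h := (Agent.S4279.result (F := ZMod 5) (by decide) (e s) (by rwa [e.orderOf_eq])).1
  rw [ZMod.card] at h
  refine (Nat.card_congr (e.toEquiv.subtypeEquiv fun g => ?_)).trans h
  rw [mem_centralizer_singleton_iff, mem_centralizer_singleton_iff, ← e.injective.eq_iff, map_mul, map_mul]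
  rfl

/-- The fixed points of `t`. -/
def FT : Set (Spor.Ly ⧸ HH) := {y | tt • y = y}

instance finX : Finite (Spor.Ly ⧸ HH) := (xsums ∅ (by simp)).1

theorem tH_ord : orderOf (⟨tt, t_mem⟩ : HH) = 2 := (orderOf_coe _).symm.trans t_ord

theorem card_cen : Nat.card (centralizer {tt}) = FT.ncard * 14400 := by
  have h1 := (stabilizer (centralizer {tt}) ((1 : Spor.Ly) : Spor.Ly ⧸ HH)).index_mul_card
  rw [index_stabilizer] at h1
  rw [← h1, ← cenH tH_ord]
  refine congrArg₂ (· * ·) (congrArg Set.ncard ?_) ?_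
  · ext y
    constructor
    · rintro ⟨g, rfl⟩
      change tt • (g : Spor.Ly) • ((1 : Spor.Ly) : Spor.Ly ⧸ HH) = (g : Spor.Ly) • ((1 : Spor.Ly) : Spor.Ly ⧸ HH)
      rw [← mul_smul, ← mem_centralizer_singleton_iff.1 g.2, mul_smul, smul_one_of_mem.2 t_mem]
    · intro hy
      obtain ⟨g, rfl⟩ := QuotientGroup.mk_surjective y
      have a : g⁻¹ * tt * g ∈ HH := by
        have := QuotientGroup.eq.1 (show ((g : Spor.Ly) : Spor.Ly ⧸ HH) = (tt * g : Spor.Ly) from hy.symm)
        rwa [← mul_assoc] at this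
      obtain ⟨h, hh⟩ := isConj_iff.1 (conjH tH_ord (u := ⟨_, a⟩) (by
        rw [← orderOf_coe, ← t_ord]
        exact orderOf_injective (MulAut.conj g⁻¹).toMonoidHom (MulAut.conj g⁻¹).injective tt ▸ by simp))
      have hh' : (h : Spor.Ly) * tt * (h : Spor.Ly)⁻¹ = g⁻¹ * tt * g := congrArg Subtype.val hh
      refine ⟨⟨g * h, mem_centralizer_singleton_iff.2 ?_⟩, QuotientGroup.eq.2 ?_⟩
      · calc g * h * tt = g * (h * tt * (h : Spor.Ly)⁻¹) * h := by group
          _ = _ := by rw [hh']; group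
      · simp
  · exact Nat.card_congr ⟨fun g => ⟨⟨g.1.1, smul_one_of_mem.1 g.2⟩, mem_centralizer_singleton_iff.2
        (Subtype.ext (mem_centralizer_singleton_iff.1 g.1.2))⟩,
      fun g => ⟨⟨g.1.1, mem_centralizer_singleton_iff.2 (congrArg Subtype.val (mem_centralizer_singleton_iff.1 g.2))⟩,
        smul_one_of_mem.2 g.1.2⟩, fun _ => rfl, fun _ => rfl⟩

theorem FT_le : FT.ncard ≤ 5 * 14400 := by
  have h : FT ⊆ ⋃ k ∈ Finset.range 5, {y | y ∈ orbit HH (xx k) ∧ (⟨tt, t_mem⟩ : HH) • y = y} := fun y hy => by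
    obtain ⟨k, hk, g, rfl⟩ := xall y
    exact Set.mem_biUnion (Finset.mem_range.2 hk) ⟨⟨⟨phi g, phi_range ▸ ⟨g, rfl⟩⟩, rfl⟩, hy⟩
  refine (Set.ncard_le_ncard h).trans ((Finset.set_ncard_biUnion_le _ _).trans ?_)
  refine (Finset.sum_le_card_nsmul _ _ 14400 fun k _ => (fix_orbit_le _ _).trans_eq (cenH tH_ord)).trans_eq rfl

theorem phi_inj : Function.Injective phi := inj_of_card (by rw [phi_range, cardH, LyN.card])

theorem stab1 : stabilizer GN (xx 1) = stabilizer GN (0 : ℕ) :=
  eq_of_le_of_card_ge fix1 (by rw [stab_card 1 (by norm_num)]; exact stab0)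

theorem scan : allR 0 64 306 (fun q => cnd (Nat.beq (wap LyN.tb [3] q) q) (cnd (Nat.beq (wap LyN.tb [17] q) q)
    (cnd (Nat.beq (wap LyN.tb [1, 1, 1, 1] q) q) (cnd (Nat.blt q 19530) (Nat.beq q 12529) true) true) true) true) =
    true := by decide +kernel

theorem fix_iff {w : List ℕ} (hw : ∀ a ∈ w, a ∈ LyN.L) (g : GN) :
    ev gam w • g • xx 1 = g • xx 1 ↔ Nat.beq (wap LyN.tb w (g • 0)) (g • 0) = true := by
  rw [← phi_ev w hw, ← act_def, ← inv_smul_eq_iff, ← mul_smul, ← mul_smul, ← mem_stabilizer_iff, stab1,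
    mem_stabilizer_iff, mul_smul, mul_smul, inv_smul_eq_iff, beq_tt, wap_eq LyN.tb_ok, Equiv.Perm.inv_eq_iff_eq,
    eq_comm, ← coe_ev_sval (G := GN) fun a ha => mem_cl (hw a ha)]
  rfl

theorem FT_mod : FT.ncard % 5 = 2 := by
  classical
  have : Fact (Nat.Prime 5) := ⟨by norm_num⟩
  have ob : orderOf (ev gam [3]) = 5 := ord_of (by decide +kernel) (i := 0) (j := 1) (by decide +kernel)
  have oc : orderOf (ev gam [17]) = 5 := ord_of (by decide +kernel) (i := 0) (j := 5) (by decide +kernel)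
  have c1 : Commute tt (ev gam [3]) := comm_of (by decide +kernel)
  have c2 : Commute tt (ev gam [17]) := comm_of (by decide +kernel)
  have c3 : Commute (ev gam [3]) (ev gam [17]) := comm_of (by decide +kernel)
  have k : ∀ {a b : Spor.Ly}, Commute a b → ∀ y : Spor.Ly ⧸ HH, a • y = y → a • b • y = b • y := fun h y e => by
    rw [← mul_smul, h.eq, mul_smul, e]
  have h1 := fix_mod (S := FT) (ob ▸ pow_orderOf_eq_one _) (k c1)
  have h2 := fix_mod (S := {y | y ∈ FT ∧ ev gam [3] • y = y}) (oc ▸ pow_orderOf_eq_one _)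
    fun y h => ⟨k c2 y h.1, k c3 y h.2⟩
  obtain ⟨g, hg, e⟩ := (LyN.ex.cons LyN.nets_ok).2.2.2.2.1 12529 (by norm_num) (by norm_num)
  let g0 : GN := ⟨g, LyN.cl_lc.le hg⟩
  replace e : g0 • 0 = 12529 := e
  have h3 : {y | y ∈ {y | y ∈ FT ∧ ev gam [3] • y = y} ∧ ev gam [17] • y = y} = {xx 0, g0 • xx 1} := by
    ext y
    constructor
    · rintro ⟨⟨a1, a2⟩, a3⟩
      obtain ⟨k, hk, g, rfl⟩ := xall y
      by_cases k0 : k = 0
      · exact Or.inl (k0 ▸ fix0 g)
      by_cases k1 : k = 1
      · subst k1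
        have := allR_sound scan (Nat.zero_le (g • 0)) ((LyN.lev0.1 g g.2).trans (by norm_num))
        rw [(fix_iff (by decide) g).1 a2, (fix_iff (by decide) g).1 a3, (fix_iff (by decide) g).1 a1,
          show Nat.blt (g • 0) 19530 = true from Nat.blt_eq.mpr (LyN.lev0.1 g g.2)] at this
        have a4 : g0⁻¹ * g ∈ stabilizer GN (xx 1) := by
          rw [stab1, mem_stabilizer_iff, mul_smul, inv_smul_eq_iff, e]; exact beq_tt.1 this
        rw [mem_stabilizer_iff, mul_smul, inv_smul_eq_iff] at a4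
        exact Or.inr a4
      exfalso
      have b1 := phi_ev [3] (by decide)
      have b2 := phi_ev [17] (by decide)
      have := sq_dvd_of_comm (p := 5) (K := stabilizer GN (g • xx k)) (b := evG LyN.nets GN [3])
        (c := evG LyN.nets GN [17]) (by rw [mem_stabilizer_iff, act_def, b1, a2])
        (by rw [mem_stabilizer_iff, act_def, b2, a3]) (by rw [← orderOf_injective phi phi_inj, b1, ob])
        (by rw [← orderOf_injective phi phi_inj, b2, oc]) (phi_inj (by rw [map_mul, map_mul, b1, b2, c3.eq]))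
        fun h => by
          have h' : ev gam [17] ∈ zpowers (ev gam [3]) := by
            rw [← b1, ← b2, ← MonoidHom.map_zpowers]; exact mem_map_of_mem _ h
          rw [mem_zpowers_iff_mem_range_orderOf, ob] at h'
          obtain ⟨i, hi, h'⟩ := Finset.mem_image.1 h'
          have : ∀ i < 5, wne (List.replicate i 3) [17] 0 5 = true := by decide +kernel
          exact ne_of_wne (this i (Finset.mem_range.1 hi)) (by rw [← h']; simp [ev])
      rw [card_stab_smul, stab_card k hk] at this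
      clear a1 a2 a3
      revert k
      decide
    · have m : ∀ w : List ℕ, (∀ a ∈ w, a ∈ LyN.L) → ev gam w • xx 0 = xx 0 := fun w hw => by
        rw [← phi_ev w hw]; exact fix0 _
      rintro (rfl | rfl)
      · exact ⟨⟨m _ (by decide), m _ (by decide)⟩, m _ (by decide)⟩
      · exact ⟨⟨(fix_iff (by decide) g0).2 (by rw [e]; decide +kernel), (fix_iff (by decide) g0).2
          (by rw [e]; decide +kernel)⟩, (fix_iff (by decide) g0).2 (by rw [e]; decide +kernel)⟩
  rw [h3, Set.ncard_pair fun h => ne0 1 (by decide) g0⁻¹ (by rw [inv_smul_eq_iff, h])] at h2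
  exact h1.trans h2

theorem rA : Rels (sv gam VA) RA := fun r hr => by
  have e : ∀ r ∈ RA, ∃ p ∈ [(0, 16), (16, 15), (31, 13), (44, 1)], r ∈ (RA.drop p.1).take p.2 := by decide +kernel
  obtain ⟨p, hp, h⟩ := e r hr
  simp only [List.mem_cons, List.not_mem_nil, or_false] at hp
  rcases hp with rfl | rfl | rfl | rfl
  exacts [rels_of_rel7 ar0 r h, rels_of_rel7 ar1 r h, rels_of_rel7 ar2 r h, rels_of_rel7 ar3 r h]

theorem LA_mem : ∀ x ∈ LA, gam x ∈ centralizer {tt} := fun x hx => by
  have : ∀ x ∈ LA, weq7 (apd [x] [1, 1, 1, 1]) (apd [1, 1, 1, 1] [x]) = true := by decide +kernel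
  exact mem_centralizer_singleton_iff.2 (ev_single gam x ▸ (comm_of (this x hx)).eq)

/-- The centraliser of `t`. -/
noncomputable abbrev CT : Subgroup Spor.Ly := centralizer {tt}

/-- The centre of the centraliser. -/
noncomputable abbrev ZT : Subgroup CT := (zpowers tt).subgroupOf CT

theorem ZT_le : ZT ≤ center CT := fun y ⟨k, hk⟩ => mem_center_iff.2 fun g => Subtype.ext (by
  have := ((show Commute g.1 tt from mem_centralizer_singleton_iff.1 g.2).zpow_right k).eq
  rwa [show tt ^ k = y.1 from hk] at this)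

instance nZT : ZT.Normal := Cfsg.Lib.Mult.normal_of_le_center ZT_le

/-- Lifts of Moore's generators. -/
noncomputable def mA (i : ℕ) : CT := ⟨sv gam VA i, sv_mem LA_mem (by decide +kernel) i⟩

theorem card_A11 : Nat.card (alternatingGroup (Fin 11)) = 19958400 := by
  have h2 := two_mul_nat_card_alternatingGroup (α := Fin 11)
  rw [Nat.card_perm, Nat.card_eq_fintype_card (α := Fin 11), Fintype.card_fin,
    show Nat.factorial 11 = 2 * 19958400 by decide +kernel] at h2
  omega

theorem x_ord : orderOf (sv gam VA 0) = 3 :=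
  haveI : Fact (Nat.Prime 3) := ⟨by norm_num⟩
  ord_of (w := [1, 20]) (by decide +kernel) (i := 0) (j := 0) (by decide +kernel)

theorem card_ZT : Nat.card ZT = 2 := by
  rw [Nat.card_congr (subgroupOfEquivOfLe (zpowers_le.2 (mem_centralizer_singleton_iff.2 rfl))).toEquiv,
    Nat.card_zpowers, t_ord]

theorem isoA : ∃ e : alternatingGroup (Fin 11) ≃* CT ⧸ ZT, ∀ i : Fin 9, e (mooreGen 9 i) = mA i := by
  have h : Rels (fun i => (mA i : CT ⧸ ZT)) RA0 := fun r hr => by
    have e : ∀ r ∈ RA0, UpTo 9 1 RA r := by decide +kernel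
    rw [← show QuotientGroup.mk' ZT (ev mA r.1) = ev (fun i => (mA i : CT ⧸ ZT)) r.1 from ev_map mA _ r.1, ← map_pow]
    refine (QuotientGroup.eq_one_iff _).2 ?_
    have := (e r hr).mem rA
    rwa [← show CT.subtype (ev mA r.1) = ev (sv gam VA) r.1 from ev_map mA _ r.1, ← map_pow] at this
  obtain ⟨φ, hφ⟩ := exists_hom_moore (moore_of_rels (n := 9) h (by decide +kernel))
  have hi : Function.Injective φ := inj_of_simple (alternatingGroup.isSimpleGroup (by simp)) (g := mooreGen 9 0) (by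
    rw [hφ]
    intro h
    have := orderOf_dvd_of_mem_zpowers (show sv gam VA 0 ∈ zpowers tt from (QuotientGroup.eq_one_iff (mA 0)).1 h)
    rw [x_ord, t_ord] at this
    omega)
  have h1 := φ.range.index_mul_card
  have h2 := ZT.index_mul_card
  have h3 := CT.index_mul_card
  have h4 := FT_le
  have h5 := FT_mod
  rw [← Nat.card_congr (MonoidHom.ofInjective hi).toEquiv, card_A11] at h1
  rw [card_ZT, index_eq_card, ← h1, card_cen] at h2
  rw [card, card_cen, ← h2] at h3
  have h6 : φ.range.index ∣ 1296826875 := ⟨CT.index, by nlinarith⟩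
  have h7 : ∀ m < 26, m ∣ 1296826875 → m % 5 = 1 → m = 1 := by decide
  exact ⟨MulEquiv.ofBijective φ ⟨hi, MonoidHom.range_eq_top.1 (index_eq_one.1 (h7 _ (by omega) h6 (by omega)))⟩, hφ⟩

theorem m1_sq : sv gam VA 1 ^ 2 = tt := by
  have := eq_of_weq7 (u := pw (nth [] VA 1) 1) (v := [1, 1, 1, 1]) (by decide +kernel)
  rwa [ev_pw] at this

theorem center_A11 : center (alternatingGroup (Fin 11)) = ⊥ := alternatingGroup.center_eq_bot (by simp)

theorem cover : IsNonsplitDoubleCover CT (alternatingGroup (Fin 11)) :=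
  XC.nonsplit t_ord rfl isoA.choose.symm (MulEquiv.refl _) center_A11 m1_sq

theorem card_CT : Nat.card CT = 39916800 := by
  rw [← ZT.index_mul_card, card_ZT, index_eq_card, ← Nat.card_congr isoA.choose.toEquiv, card_A11]

/-- The projection onto `A₁₁`. -/
noncomputable def piA : CT →* alternatingGroup (Fin 11) :=
  isoA.choose.symm.toMonoidHom.comp (QuotientGroup.mk' ZT)

theorem piA_m (i : Fin 9) : piA (mA i) = mooreGen 9 i := isoA.choose.symm_apply_eq.2 (isoA.choose_spec i).symm

theorem piA_ker : piA.ker = ZT := Subgroup.ext fun _ => isoA.choose.symm.map_eq_one_iff.trans (QuotientGroup.eq_one_iff _)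

theorem piA_stem : IsStemExtension piA := by
  refine ⟨isoA.choose.symm.surjective.comp QuotientGroup.mk_surjective, piA_ker ▸ ZT_le, piA_ker ▸ fun y ⟨k, hk⟩ => ?_⟩
  have h := eq_of_weq7 (u := xpd VA [1, 3]) (v := xpd VA [9, 3, 1]) (by decide +kernel)
  simp only [ev_xpd, ev_cons, ev_nil, mul_one] at h
  have e : y = ⁅mA 1, mA 3⁆ ^ k := Subtype.ext (hk.symm.trans (congrArg (· ^ k) (show tt = sv gam VA 1 * sv gam VA 3 *
    (sv gam VA 1)⁻¹ * (sv gam VA 3)⁻¹ by rw [h, ← mul_assoc, mul_inv_cancel_right, mul_inv_cancel_right]; rfl)))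
  exact e ▸ zpow_mem (commutator_mem_commutator (mem_top _) (mem_top _)) k

end Cfsg.Lib.Comp.Ly
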