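import Cfsg.Agent.Lib.Comp.Ly.Mcl
import Cfsg.Agent.Lib.Comp.Out
import Cfsg.Agent.Lib.Golay.FusSub

/-! Involutions and `2`-fusion in the Lyons group. -/

set_option maxRecDepth 100000
set_option maxHeartbeats 400000
set_option Elab.async false

namespace Cfsg.Lib.Comp.Ly

open MulAction Subgroup Cfsg.Lib.Linear Cfsg.Lib.Golay Cfsg.Lib.Fus

/-- The map to the symmetric group. -/
noncomputable def psi : CT →* Equiv.Perm (Fin 11) := (alternatingGroup (Fin 11)).subtype.comp piA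

theorem t_cases {k : Spor.Ly} (h : k ∈ zpowers tt) : k = 1 ∨ k = tt := by
  classical
  rw [mem_zpowers_iff_mem_range_orderOf, t_ord] at h
  obtain ⟨i, hi, rfl⟩ := Finset.mem_image.1 h
  rcases (show i = 0 ∨ i = 1 by have := Finset.mem_range.1 hi; omega) with rfl | rfl
  exacts [Or.inl (pow_zero _), Or.inr (pow_one _)]

theorem psi_eq {u v : CT} (h : psi u = psi v) : (v : Spor.Ly) = u ∨ (v : Spor.Ly) = u * tt := by
  have h1 : u⁻¹ * v ∈ ZT := by
    rw [← piA_ker, MonoidHom.mem_ker, map_mul, map_inv, show piA u = piA v from Subtype.ext h, inv_mul_cancel]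
  exact (t_cases h1).imp (fun e => (inv_mul_eq_one.1 e).symm) inv_mul_eq_iff_eq_mul.1

theorem t_sq : tt * tt = 1 := by rw [← pow_two, ← t_ord, pow_orderOf_eq_one]

theorem t_ne : tt ≠ 1 := fun h => by have := t_ord; rw [h, orderOf_one] at this; omega

theorem ct (u : CT) : (u : Spor.Ly) * tt = tt * u := mem_centralizer_singleton_iff.1 u.2

theorem inv_conj {u v : CT} (hu : psi u * psi u = 1) (hv : psi v * psi v = 1) (h0 : psi u ≠ 1)
    (h : (psi u).support.card = (psi v).support.card) : ∃ g : CT, psi (g * u * g⁻¹) = psi v ∧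
      ((psi u).support.card = 4 ∨ (psi u).support.card = 8) := by
  have o : ∀ {σ : Equiv.Perm (Fin 11)}, σ * σ = 1 → σ ≠ 1 → ∃ n, σ.cycleType = Multiset.replicate n 2 ∧
      σ.support.card = n * 2 := fun {σ} a b => by
    have e : orderOf σ = 2 := orderOf_eq_prime (by rwa [pow_two]) b
    obtain ⟨n, hn⟩ := Equiv.Perm.cycleType_prime_order (σ := σ) (e ▸ Nat.prime_two)
    exact ⟨n + 1, e ▸ hn, by rw [← Equiv.Perm.sum_cycleType, hn, e, Multiset.sum_replicate, smul_eq_mul]⟩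
  have h1 : (psi u).support.card ≠ 0 := by rwa [Ne, Equiv.Perm.card_support_eq_zero]
  obtain ⟨n, a1, a2⟩ := o hu h0
  obtain ⟨m, b1, b2⟩ := o hv (by rwa [Ne, ← Equiv.Perm.card_support_eq_zero, ← h])
  have c1 : (psi u).support.card ≤ 11 := (Finset.card_le_univ _).trans_eq (Fintype.card_fin 11)
  have c2 := Equiv.Perm.sign_of_cycleType (psi u)
  rw [show Equiv.Perm.sign (psi u) = 1 from (piA u).2, a1, eq_comm, neg_one_pow_eq_one_iff_even (by decide),
    Multiset.sum_replicate, Multiset.card_replicate, Nat.even_iff, smul_eq_mul] at c2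
  obtain ⟨g, hg⟩ := isConj_iff.1 (alternatingGroup.isConj_of (σ := piA u) (τ := piA v)
    (Equiv.Perm.isConj_iff_cycleType_eq.2 (a1.trans ((show n = m by omega) ▸ b1.symm)))
    (show (psi u).support.card + 2 ≤ Fintype.card (Fin 11) by rw [Fintype.card_fin]; omega))
  obtain ⟨g, rfl⟩ := piA_stem.1 g
  exact ⟨g, by rw [map_mul, map_mul, map_inv]; exact congrArg Subtype.val hg, by omega⟩

theorem sq4 {u : CT} (hu : psi u * psi u = 1) (h : (psi u).support.card = 4) : (u : Spor.Ly) * u = tt := by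
  have e : psi (mA 1) = mooreGen 9 1 := congrArg Subtype.val (piA_m 1)
  obtain ⟨g, hg, -⟩ := inv_conj (u := mA 1) (by rw [e]; decide +kernel) hu (by rw [e]; decide +kernel)
    (by rw [e, h]; decide +kernel)
  have h2 : ((g * mA 1 * g⁻¹ : CT) : Spor.Ly) * (g * mA 1 * g⁻¹ : CT) = tt := by
    rw [← coe_mul, ← pow_two, conj_pow, coe_mul, coe_mul, coe_pow, show (mA 1 : Spor.Ly) ^ 2 = tt from m1_sq, ct,
      coe_inv, mul_inv_cancel_right]
  generalize g * mA 1 * g⁻¹ = v at hg h2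
  rcases psi_eq hg with a | a
  · rw [a, h2]
  · rw [a, mul_assoc, ← mul_assoc tt, ← ct, mul_assoc, t_sq, mul_one, h2]

theorem type8 {u : CT} (hu : (u : Spor.Ly) * u = 1) (h0 : psi u ≠ 1) : (psi u).support.card = 8 := by
  have h1 : psi u * psi u = 1 := by rw [← map_mul, show u * u = 1 from Subtype.ext hu, map_one]
  obtain ⟨-, -, h | h⟩ := inv_conj h1 h1 h0 rfl
  exacts [absurd ((sq4 h1 h).symm.trans hu) t_ne, h]

theorem conj8 {u : CT} (hu : psi u * psi u = 1) (h : (psi u).support.card = 8) : IsConj tt u := by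
  have o1 : orderOf (ev gam [1, 7]) = 2 := ord_of (by decide +kernel) (i := 0) (j := 0) (by decide +kernel)
  have o2 : orderOf (ev gam ([1, 7] ++ [1, 1, 1, 1])) = 2 :=
    ord_of (by decide +kernel) (i := 0) (j := 0) (by decide +kernel)
  have m1 : ev gam [1, 7] ∈ HH := ev_mem fun x hx => mem_cl (by revert x; decide)
  rw [ev_append] at o2
  have c : ∀ {s}, s ∈ HH → orderOf s = 2 → IsConj tt s := fun {s} hs ho =>
    HH.subtype.map_isConj (conjH tH_ord (u := ⟨s, hs⟩) ((orderOf_coe _).symm.trans ho))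
  let s : CT := ⟨ev gam [1, 7], ev_mem fun x hx => LA_mem x (by revert x; decide)⟩
  have s1 : (s : Spor.Ly) * s = 1 := by rw [← pow_two, ← o1, pow_orderOf_eq_one]
  have s2 : psi s ≠ 1 := fun e => by
    rcases psi_eq (e.trans psi.map_one.symm).symm with a | a
    · rw [show ev gam [1, 7] = 1 from a, orderOf_one] at o1; omega
    · rw [show ev gam [1, 7] = 1 * tt from a, one_mul, show ev gam [1, 1, 1, 1] = tt from rfl, t_sq,
        orderOf_one] at o2
      omega
  obtain ⟨g, hg, -⟩ := inv_conj (by rw [← map_mul, show s * s = 1 from Subtype.ext s1, map_one]) hu s2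
    ((type8 s1 s2).trans h.symm)
  rcases psi_eq hg with a | a
  · exact (c m1 o1).trans (isConj_iff.2 ⟨g, a.symm⟩)
  · refine (c (mul_mem m1 t_mem) o2).trans (isConj_iff.2 ⟨g, ?_⟩)
    rw [a, coe_mul, coe_mul, mul_assoc _ _ tt, ct, coe_inv]
    simp only [mul_assoc]
    rfl

theorem index_CT : CT.index = 1296826875 :=
  Nat.eq_of_mul_eq_mul_right (by norm_num : 0 < 39916800) (card_CT ▸ CT.index_mul_card.trans (card.trans (by rw [card_CT])))

theorem one_class {s : Spor.Ly} (h1 : s * s = 1) (h2 : s ≠ 1) : IsConj tt s := by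
  obtain ⟨g, hg⟩ := conj_mem_of_index (p := 2) (A := CT) (by rw [index_CT]; norm_num) (pow_two s ▸ h1)
  refine IsConj.trans ?_ (isConj_iff.2 ⟨g, rfl⟩).symm
  have a : g * s * g⁻¹ * (g * s * g⁻¹) = 1 := by rw [← pow_two, conj_pow, pow_two, h1, mul_one, mul_inv_cancel]
  by_cases h : psi ⟨_, hg⟩ = 1
  · rcases psi_eq (h.trans psi.map_one.symm).symm with b | b
    · exact absurd (conj_eq_one_iff.1 b) h2
    · rw [show g * s * g⁻¹ = 1 * tt from b, one_mul]
  · exact conj8 (u := ⟨_, hg⟩) (by rw [← map_mul, show (⟨_, hg⟩ : CT) * ⟨_, hg⟩ = 1 from Subtype.ext a, map_one])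
      (type8 a h)

/-- Codes of permutations of eleven points. -/
def c11 : Coding (Fin 11) := finCoding 11 (by norm_num)

def T2 : List (ℕ × ℕ × ℕ) := [(0xa08090203000106070504, 0xa09080203000105040706, 1008),
  (0xa09080203000105040706, 0xa08090203000106070504, 1008), (0xa08090302010004050706, 0xa08090302010004050706, 8)]

/-- A Sylow `2`-subgroup of `A₁₁`. -/
noncomputable abbrev SA : Subgroup (Equiv.Perm (Fin 11)) := c11.gen (Golay.mapL Prod.fst T2)

/-- A Sylow `2`-subgroup of the Lyons group. -/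
noncomputable abbrev S2 : Subgroup Spor.Ly := (SA.comap psi).map CT.subtype

theorem T2_v : ∀ s ∈ Golay.mapL Prod.fst T2, c11.Valid s := valid_of_allL (by decide +kernel)

theorem aut2 : (∀ x ∈ SA, (∀ s ∈ SA, s * x = x * s) → x = 1 ∨ x = c11.dec 0xa09080607040502030001) ∧
    ∀ (σ : MulAut SA) x, x⁻¹ * σ (σ x) ∈ sqs SA :=
  autCert_spec T2_v (Coding.inH_words (Coding.inH_gen T2_v) [[0], [1], [2, 0]]) (by decide +kernel)

/-- Products of transpositions. -/
def sp (l : List (Fin 11 × Fin 11)) : Equiv.Perm (Fin 11) := (l.map fun p => Equiv.swap p.1 p.2).prod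

theorem dec_sp {l : List (Fin 11 × Fin 11)} {g : ℕ} (h : c11.enc (sp l) = g) : c11.dec g = sp l := h ▸ c11.dec_enc _

theorem sp_mem {l : List (Fin 11 × Fin 11)} (w : List ℕ) (h : c11.enc (sp l) = wordN 11 (Golay.mapL Prod.fst T2) w) :
    sp l ∈ SA := dec_sp h ▸ (Coding.inH_wordN (Coding.inH_gen T2_v) w).2

theorem SA_gen {K : Subgroup (Equiv.Perm (Fin 11))} (h : ∀ l ∈ [[(2, 3), (4, 5), (6, 7), (8, 9)],
    [(0, 2), (1, 3), (4, 5), (6, 7)], [(0, 4), (1, 5), (2, 6), (3, 7)]], sp l ∈ K) : SA ≤ K := by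
  have a : ∀ g ∈ [0xa08090607040502030100, 0xa09080607040501000302, 0xa09080302010007060504], c11.InH K g := by
    simp only [List.forall_mem_cons] at h ⊢
    have b : ∀ {l g}, sp l ∈ K → c11.enc (sp l) = g → c11.InH K g := fun h e => ⟨⟨_, e⟩, dec_sp e ▸ h⟩
    exact ⟨b h.1 (by decide +kernel), b h.2.1 (by decide +kernel), b h.2.2.1 (by decide +kernel), by simp⟩
  have b := Coding.gen_le (Coding.inH_words a [[2, 0], [2, 1], [2, 1, 0]])
  rwa [show Golay.mapL _ _ = Golay.mapL Prod.fst T2 by decide +kernel] at b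

theorem SA_le : SA ≤ psi.range := SA_gen fun l hl => by
  have : ∀ l ∈ [[(2, 3), (4, 5), (6, 7), (8, 9)], [(0, 2), (1, 3), (4, 5), (6, 7)], [(0, 4), (1, 5), (2, 6), (3, 7)]],
    Equiv.Perm.sign (sp l) = 1 := by decide +kernel
  obtain ⟨g, hg⟩ := piA_stem.1 ⟨_, this l hl⟩
  exact ⟨g, congrArg Subtype.val hg⟩

theorem mem_S2 {u : CT} : (u : Spor.Ly) ∈ S2 ↔ psi u ∈ SA := mem_map_iff_mem CT.subtype_injective

theorem card_S2 : Nat.card S2 = 2 ^ 8 := by
  have h1 : Nat.card SA = 128 := Coding.card_gen T2_v (M := 127) (d := 7) (a := 3) (by decide +kernel)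
  have h2 : SA ≤ alternatingGroup (Fin 11) := SA_le.trans (by rintro _ ⟨g, rfl⟩; exact (piA g).2)
  rw [card_map_of_injective CT.subtype_injective, psi, ← comap_comap, card_comap piA_stem.1, piA_ker, card_ZT,
    comap_subtype, Nat.card_congr (subgroupOfEquivOfLe h2).toEquiv, h1]
  rfl

theorem le_of_image {T : Subgroup Spor.Ly} (ht : tt ∈ T) {u : CT} (h : psi u ∈ (T.subgroupOf CT).map psi) :
    (u : Spor.Ly) ∈ T := by
  obtain ⟨v, hv, e⟩ := h
  rcases psi_eq e with a | a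
  exacts [a ▸ hv, a ▸ mul_mem hv ht]

theorem ex4 : ∃ u : CT, psi u = sp [(0, 1), (8, 9)] ∧ (u : Spor.Ly) ∈ S2 ∧ (u : Spor.Ly) * u = tt := by
  have h := sp_mem (l := [(0, 1), (8, 9)]) [2, 2, 2, 1] (by decide +kernel)
  obtain ⟨u, hu⟩ := SA_le h
  exact ⟨u, hu, mem_S2.2 (hu ▸ h), sq4 (by rw [hu]; decide +kernel) (by rw [hu]; decide +kernel)⟩

theorem sq_of_conj {s : Spor.Ly} (h : IsConj tt s) : s * s = 1 := by
  obtain ⟨g, rfl⟩ := isConj_iff.1 h
  rw [← pow_two, conj_pow, pow_two, t_sq, mul_one, mul_inv_cancel]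

theorem center_S2 {z : Spor.Ly} (hz : z ∈ S2) (h1 : z ≠ 1) (h : ∀ s ∈ S2, s * z = z * s) : z = tt := by
  obtain ⟨z, hz, rfl⟩ := hz
  rcases aut2.1 _ hz (fun s hs => by
    obtain ⟨s, rfl⟩ := SA_le hs
    rw [← map_mul, ← map_mul]
    exact congrArg psi (Subtype.ext (h _ (mem_S2.2 hs)))) with a | a
  · rcases psi_eq (a.trans psi.map_one.symm).symm with b | b
    exacts [absurd b h1, b.trans (one_mul _)]
  exfalso
  rw [dec_sp (l := [(0, 1), (2, 3), (4, 5), (6, 7)]) (by decide +kernel)] at a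
  obtain ⟨u, a1, a2, a3⟩ := ex4
  have b1 := sq_of_conj (conj8 (u := z) (by rw [a]; decide +kernel) (by rw [a]; decide +kernel))
  have b2 := sq_of_conj (conj8 (u := u * z) (by rw [map_mul, a, a1]; decide +kernel)
    (by rw [map_mul, a, a1]; decide +kernel))
  rw [coe_mul, mul_assoc, ← mul_assoc (z : Spor.Ly), ← show (u : Spor.Ly) * z = z * u from h _ a2, mul_assoc, b1,
    mul_one, a3] at b2
  exact t_ne b2

theorem t_S2 : tt ∈ S2 := by
  obtain ⟨u, -, a2, a3⟩ := ex4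
  exact a3 ▸ mul_mem a2 a2

theorem fusion_simple {G : Type*} [Group G] [Finite G] (e : G ≃* Spor.Ly) (S : Sylow 2 G) :
    (groupFusionSystem (S : Subgroup G)).IsSimple 2 := by
  let Q : Sylow 2 G := Sylow.ofCard (S2.map e.symm.toMonoidHom) (by
    rw [card_map_of_injective e.symm.injective, card_S2, Nat.card_congr e.toEquiv, card,
      show 51765179004000000 = 2 ^ 8 * 202207730484375 by norm_num,
      Nat.factorization_mul (by positivity) (by norm_num), Nat.Prime.factorization_pow Nat.prime_two]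
    simp [Nat.factorization_eq_zero_of_not_dvd (show ¬ 2 ∣ 202207730484375 by norm_num)])
  obtain ⟨g, hg⟩ := MulAction.exists_smul_eq G S Q
  refine simple_of_emb S (e.toMonoidHom.comp (MulAut.conj g).toMonoidHom) (e.injective.comp (MulAut.conj g).injective)
    (H := ⊤) (S₀ := S2) (MonoidHom.range_eq_top.mpr (e.surjective.comp (MulAut.conj g).surjective))
    (by rw [← map_map, show (S : Subgroup G).map (MulAut.conj g).toMonoidHom = S2.map e.symm.toMonoidHom from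
        congrArg Sylow.toSubgroup hg,
      map_map]; simp) (fun h => t_ne (mem_bot.1 (h ▸ t_S2))) (fun T hT z hz h1 hc => ?_) fun g _ hg => ⟨1, ?_⟩
  · obtain rfl := center_S2 (hT.1 hz) h1 hc
    have : SA ≤ (T.subgroupOf CT).map psi := SA_gen fun l hl => by
      have a : ∀ l ∈ [[(2, 3), (4, 5), (6, 7), (8, 9)], [(0, 2), (1, 3), (4, 5), (6, 7)],
          [(0, 4), (1, 5), (2, 6), (3, 7)]], (sp l * sp l = 1 ∧ (sp l).support.card = 8) ∧
          ∃ w ∈ [[0, 1, 0, 2], [0, 2, 0, 0], [1, 0, 2, 0, 0]], c11.enc (sp l) = wordN 11 (Golay.mapL Prod.fst T2) w := by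
        decide +kernel
      obtain ⟨⟨a1, a2⟩, w, -, a3⟩ := a l hl
      obtain ⟨u, hu⟩ := SA_le (sp_mem w a3)
      obtain ⟨k, hk⟩ := isConj_iff.1 (conj8 (u := u) (hu ▸ a1) (hu ▸ a2))
      exact ⟨u, show (u : Spor.Ly) ∈ T from hk ▸ hT.2 _ hz k trivial (hk ▸ mem_S2.2 (hu ▸ sp_mem w a3)), hu⟩
    rintro _ ⟨u, hu, rfl⟩
    exact le_of_image hz (this hu)
  · have h2 : IsPGroup 2 S2 := IsPGroup.of_card card_S2
    have sq : ∀ x ∈ S2, x * x ∈ (frattini S2).map S2.subtype := fun x hx =>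
      ⟨_, PGrp.pow_mem_frattini h2 ⟨x, hx⟩, pow_two x⟩
    have hn := mem_normalizer_iff.1 hg
    have g1 : g ∈ CT := mem_centralizer_singleton_iff.2 (mul_inv_eq_iff_eq_mul.1 (center_S2 ((hn _).1 t_S2)
      (mt conj_eq_one_iff.1 t_ne) fun s hs => by
        obtain ⟨v, -, hv⟩ := (hn (g⁻¹ * s * g)).2 (by simpa [mul_assoc] using hs)
        calc s * (g * tt * g⁻¹) = g * (v * tt) * g⁻¹ := by rw [show (v : Spor.Ly) = _ from hv]; group
          _ = _ := by rw [ct, show (v : Spor.Ly) = _ from hv]; group))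
    have g2 : psi ⟨g, g1⟩ ∈ normalizer (SA : Set (Equiv.Perm (Fin 11))) := mem_normalizer_iff.2 fun s => by
      have : ∀ v : CT, psi v ∈ SA ↔ psi ⟨g, g1⟩ * psi v * (psi ⟨g, g1⟩)⁻¹ ∈ SA := fun v => by
        rw [← map_inv, ← map_mul, ← map_mul, ← mem_S2, ← mem_S2]; exact hn v
      refine ⟨fun h => by obtain ⟨v, rfl⟩ := SA_le h; exact (this v).1 h, fun h => ?_⟩
      obtain ⟨v, hv⟩ := SA_le h
      obtain rfl : s = psi (⟨g, g1⟩⁻¹ * v * ⟨g, g1⟩) := by rw [map_mul, map_mul, map_inv, hv]; group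
      exact (this _).2 h
    have g3 : (sqs SA).map SA.subtype ≤ (((frattini S2).map S2.subtype).subgroupOf CT).map psi := by
      rw [sqs, MonoidHom.map_closure, closure_le]
      rintro _ ⟨_, ⟨x, rfl⟩, rfl⟩
      obtain ⟨v, hv⟩ := SA_le x.2
      exact ⟨v * v, sq _ (mem_S2.2 (hv ▸ x.2)), by rw [map_mul, hv]; rfl⟩
    rintro _ ⟨x, hx, rfl⟩
    obtain ⟨u, -, a2, a3⟩ := ex4
    refine le_of_image (u := x⁻¹ * (⟨g, g1⟩ ^ 2 ^ 1 * x * (⟨g, g1⟩ ^ 2 ^ 1)⁻¹)) (a3 ▸ sq _ a2)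
      (g3 ⟨_, aut2.2 (SA.normalizerMonoidHom ⟨_, g2⟩) ⟨_, hx⟩, ?_⟩)
    simp only [map_mul, map_inv, map_pow]
    show (psi x)⁻¹ * (psi ⟨g, g1⟩ * (psi ⟨g, g1⟩ * psi x * (psi ⟨g, g1⟩)⁻¹) * (psi ⟨g, g1⟩)⁻¹) = _
    rw [pow_one, pow_two]; group

end Cfsg.Lib.Comp.Ly
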