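import Cfsg.Agent.Lib.Comp.Ly.Mat
import Cfsg.Agent.Lib.Comp.LyN.Lb
import Cfsg.Agent.Lib.Comp.Sym7

/-! The Lyons group: order and simplicity. -/

set_option maxRecDepth 100000
set_option Elab.async false

namespace Cfsg.Lib.Comp.Ly

open MulAction

/-- The control group `G₂(5)` on 19530 points. -/
noncomputable abbrev GN : Subgroup (Equiv.Perm ℕ) := cl (gp LyN.nets) LyN.L

/-- The subgroup `⟨a, b, c, d⟩`. -/
noncomputable abbrev HH : Subgroup Spor.Ly := cl gam LN

theorem core : ∃ φ : GN →* Spor.Ly, (∀ w : List ℕ, (∀ a ∈ w, a ∈ LyN.L) → φ (evG LyN.nets _ w) = ev gam w) ∧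
    ∃ x : ℕ → Spor.Ly ⧸ HH, x 0 = ((1 : Spor.Ly) : Spor.Ly ⧸ HH) ∧
      letI : MulAction GN (Spor.Ly ⧸ HH) := MulAction.compHom _ φ
      Semi LyN.nets GN (fun y : Spor.Ly ⧸ HH => (gam 23)⁻¹ • y) LyN.L0 LyN.al ∧
      (∀ j < 120, (LyN.uF j).ok LyN.nets GN LyN.Lc x fun y => (gam 23)⁻¹ • y) ∧
      ∀ y, ∃ k ∈ mapL (·.1) LyN.uV, ∃ g : GN, y = g • x k :=
  sym_core8 LyN.nets_ok LyN.ctl LyP.ord LyN.rn LyN.nets_iv LyN.nets_rel LyN.card LyN.gw LyN.pr_ok LyN.semi_ok
    LyN.lev0.1 LyN.lev0.2 LyN.ax_ok LyN.uD_ok LyN.nodes_ok (by rw [LyN.nodes_eq]; simp) HH gam_iv gam_rel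
    (fun w hw => by obtain ⟨a, ha, rfl⟩ := List.mem_map.1 hw; rw [ev_single]; exact mem_cl ha) gam_top

noncomputable def phi : GN →* Spor.Ly := core.choose

noncomputable instance actN : MulAction GN (Spor.Ly ⧸ HH) := MulAction.compHom _ phi

theorem act_def (g : GN) (y : Spor.Ly ⧸ HH) : g • y = phi g • y := rfl

noncomputable def xx : ℕ → Spor.Ly ⧸ HH := core.choose_spec.2.choose

theorem phi_ev : ∀ w : List ℕ, (∀ a ∈ w, a ∈ LyN.L) → phi (evG LyN.nets _ w) = ev gam w := core.choose_spec.1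

theorem xx0 : xx 0 = ((1 : Spor.Ly) : Spor.Ly ⧸ HH) := core.choose_spec.2.choose_spec.1

theorem semi : Semi LyN.nets GN (fun y : Spor.Ly ⧸ HH => (gam 23)⁻¹ • y) LyN.L0 LyN.al :=
  core.choose_spec.2.choose_spec.2.1

theorem facts : ∀ j < 120, (LyN.uF j).ok LyN.nets GN LyN.Lc xx fun y => (gam 23)⁻¹ • y :=
  core.choose_spec.2.choose_spec.2.2.1

theorem xall (y : Spor.Ly ⧸ HH) : ∃ k < 5, ∃ g : GN, y = g • xx k := by
  obtain ⟨k, hk, h⟩ := core.choose_spec.2.choose_spec.2.2.2 y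
  rw [LyN.nodes_eq] at hk
  exact ⟨k, by clear h; revert k; decide, h⟩

instance finGN : Finite GN := LyN.nets_ok.finite _

theorem phi_range : phi.range = HH := range_of_gen (cl_sval_top _ _) fun a ha => by
  have := phi_ev [a] (fun b hb => List.mem_singleton.1 hb ▸ ha)
  rwa [evG, ev_single, ev_single] at this

theorem fix0 (g : GN) : g • xx 0 = xx 0 := by
  rw [xx0, act_def]
  exact smul_one_of_mem.2 (phi_range ▸ ⟨g, rfl⟩)

theorem tau_ne : (gam 23)⁻¹ • xx 0 ≠ xx 0 := by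
  rw [xx0]
  exact fun h => z_not (inv_mem_iff.1 (smul_one_of_mem.1 h))

theorem ne0 : ∀ k ∈ [1, 2, 3, 4], ∀ g : GN, g • xx 0 ≠ xx k := by
  have h := fun v hv => loop_sound facts fix0 tau_ne (allL_iff.1 LyN.loops v hv)
  simp only [List.forall_mem_cons] at h ⊢
  exact ⟨h.1, h.2.1, h.2.2.1, h.2.2.2.1, by simp⟩

theorem fix1 (g : GN) (hg : g • xx 1 = xx 1) : g • (0 : ℕ) = 0 :=
  first_fix LyN.nets_ok LyN.ctl semi LyN.l0_sub LyN.lev0.1 LyN.lev0.2 facts fix0 LyN.cov1 ne0 ⟨rfl, rfl⟩ g hg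

theorem ne1 : ∀ k ∈ [2, 3, 4], ∀ g : GN, g • xx 1 ≠ xx k := by
  have h := fun v hv => nfx_sound LyN.nets_ok LyN.ctl LyN.lev0.1 facts fix1
    (cnd_tt.1 (cnd_tt.1 (allL_iff.1 LyN.cov2 v hv)).2).1
  simp only [List.forall_mem_cons] at h ⊢
  exact ⟨h.1, h.2.1, h.2.2.1, by simp⟩

theorem stab0 : Nat.card (stabilizer GN (0 : ℕ)) ≤ 300000 := by
  have h1 := (stabilizer GN (0 : ℕ)).index_mul_card
  rw [index_stabilizer, LyN.card] at h1
  have h2 : 19530 ≤ (orbit GN (0 : ℕ)).ncard := by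
    rw [← ncard_Ico 0 19530]
    refine Set.ncard_le_ncard (fun p hp => ?_) (Set.finite_range _)
    obtain ⟨g, hg, e⟩ := (LyN.ex.cons LyN.nets_ok).2.2.2.2.1 p hp.1 hp.2
    exact ⟨⟨g, LyN.cl_lc.le hg⟩, e⟩
  nlinarith

/-- The orders of the stabilisers. -/
def mu (k : ℕ) : ℕ := [5859000000, 300000, 6048, 2880, 1008].getD k 0

theorem stab_card : ∀ k < 5, Nat.card (stabilizer GN (xx k)) = mu k := by
  have h1 : ∀ k < 5, 5859000000 ≤ nth 0 [1, 19530, 968750, 2034375, 5812500] k * Nat.card (stabilizer GN (xx k)) := by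
    intro k hk
    obtain ⟨v, hv, rfl, e⟩ := LyN.nodes_sz k hk
    have a1 := node_card LyN.nets_ok LyN.ctl facts LyN.card.le (allL_iff.1 LyN.nodes_ok v hv)
    have a2 := (stabilizer GN (xx v.1)).index_mul_card
    rw [index_stabilizer, LyN.card] at a2
    rw [← e, ← a2]
    exact Nat.mul_le_mul_right _ a1
  have h2 := fun v hv => far_le LyN.nets_ok LyN.ctl semi LyN.l0_sub LyN.lev0.1 LyN.lev0.2 facts fix1
    (cnd_tt.1 (allL_iff.1 LyN.cov2 v hv)).1 ne1 (cnd_tt.1 (cnd_tt.1 (allL_iff.1 LyN.cov2 v hv)).2).2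
  simp only [List.forall_mem_cons] at h2
  have a0 : Nat.card (stabilizer GN (xx 0)) ≤ 5859000000 := LyN.card ▸ Subgroup.card_le_card_group _
  have a1 : Nat.card (stabilizer GN (xx 1)) ≤ Nat.card (stabilizer GN (0 : ℕ)) := Subgroup.card_le_of_le fix1
  have a2 : Nat.card (stabilizer GN (xx 2)) * 3125 ≤ Nat.card (stabilizer GN (0 : ℕ)) * 63 := h2.1
  have a3 : Nat.card (stabilizer GN (xx 3)) * 3750 ≤ Nat.card (stabilizer GN (0 : ℕ)) * 36 := h2.2.1
  have a4 : Nat.card (stabilizer GN (xx 4)) * 12500 ≤ Nat.card (stabilizer GN (0 : ℕ)) * 42 := h2.2.2.1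
  have b0 : 5859000000 ≤ 1 * _ := h1 0 (by norm_num)
  have b1 : 5859000000 ≤ 19530 * _ := h1 1 (by norm_num)
  have b2 : 5859000000 ≤ 968750 * _ := h1 2 (by norm_num)
  have b3 : 5859000000 ≤ 2034375 * _ := h1 3 (by norm_num)
  have b4 : 5859000000 ≤ 5812500 * _ := h1 4 (by norm_num)
  have c := stab0
  intro k hk
  interval_cases k
  exacts [show _ = 5859000000 by omega, show _ = 300000 by omega, show _ = 6048 by omega, show _ = 2880 by omega,
    show _ = 1008 by omega]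

theorem xsums (Δ : Set (Spor.Ly ⧸ HH)) (hΔ : ∀ g : GN, ∀ y ∈ Δ, g • y ∈ Δ) : Finite (Spor.Ly ⧸ HH) ∧
    Δ.ncard ∈ sums (szs (fun k => 5859000000 / mu k) 5) ∧ Nat.card (Spor.Ly ⧸ HH) = 8835156 := by
  have := orbit_sums xall (fun k hk i hi g e => by
    have h := card_stab_smul g (xx k)
    rw [e, stab_card k hk, stab_card i hi] at h
    clear e
    revert k i
    decide) stab_card Δ hΔ
  rw [LyN.card] at this
  exact ⟨this.1, this.2.1, this.2.2.trans (by decide +kernel)⟩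

theorem index : HH.index = 8835156 := (xsums ∅ (by simp)).2.2

theorem isoP : Nonempty (cl (gp LyP.nets) LyP.L ≃* HH) :=
  ⟨(embed_of_rels LyP.simple LyP.nets_iv LyP.nets_rel LyP.ord LyP.lb gam_iv (LyN.rn _ _ gam_iv gam_rel) (x := 1)
    (by decide) a_ne).choose⟩

theorem cardH : Nat.card HH = 5859000000 := by
  obtain ⟨e⟩ := isoP
  rw [← Nat.card_congr e.toEquiv, LyP.card]

theorem simpleH : IsSimpleGroup HH := by
  obtain ⟨e⟩ := isoP
  have := LyP.simple
  exact e.symm.isSimpleGroup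

theorem card : Nat.card Spor.Ly = 51765179004000000 := by
  rw [← HH.index_mul_card, index, cardH]

instance finLy : Finite Spor.Ly := Nat.finite_of_card_ne_zero (by rw [card]; norm_num)

theorem top_of_le {M : Subgroup Spor.Ly} [M.Normal] (h : HH ≤ M) : M = ⊤ := by
  have a1 : ∀ x ∈ LN, QuotientGroup.mk' M (gam x) = 1 := fun x hx => (QuotientGroup.eq_one_iff _).2 (h (mem_cl hx))
  have a2 := congrArg (QuotientGroup.mk' M) (gam_rel ([23, 23, 2, 2], 0) (by decide +kernel))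
  have a3 := congrArg (QuotientGroup.mk' M)
    (gam_rel ([4, 4, 1, 3, 3, 23, 4, 4, 1, 3, 3, 23, 4, 4, 1, 3, 3, 23, 1, 1], 0) (by decide +kernel))
  simp only [zero_add, pow_one, ev_cons, ev_nil, map_mul, a1 1 (by decide), a1 2 (by decide), a1 3 (by decide),
    a1 4 (by decide), mul_one, one_mul, map_one] at a2 a3
  rw [a2, mul_one] at a3
  have a4 : gam 23 ∈ M := (QuotientGroup.eq_one_iff _).1 a3
  rw [eq_top_iff, ← gam_top]
  refine cl_le.2 fun x hx => ?_
  rcases (show x ∈ LN ∨ x = 23 ∨ x = iv 23 by revert x; decide +kernel) with b | rfl | rfl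
  · exact h (mem_cl b)
  · exact a4
  · rw [(gam_iv.2 23 (by norm_num)).2]; exact M.inv_mem a4

theorem simple : IsSimpleGroup Spor.Ly := by
  classical
  have : Nontrivial Spor.Ly := ⟨_, _, a_ne⟩
  refine ⟨fun M hM => ?_⟩
  have := simpleH
  rcases IsSimpleGroup.eq_bot_or_eq_top_of_normal (M.subgroupOf HH) inferInstance with h | h
  swap
  · exact Or.inr (top_of_le (Subgroup.subgroupOf_eq_top.1 h))
  left
  have hd : Disjoint M HH := Subgroup.subgroupOf_eq_bot.1 h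
  let f : M → Spor.Ly ⧸ HH := fun m => (m : Spor.Ly)
  have f1 : Function.Injective f := fun a b e => Subtype.ext (inv_mul_eq_one.1
    (Subgroup.disjoint_def.1 hd (M.mul_mem (M.inv_mem a.2) b.2) (QuotientGroup.eq.1 e)))
  have f2 : ∀ (g : GN) (m : M), g • f m = f ⟨_, hM.conj_mem _ m.2 (phi g)⟩ := fun g m =>
    QuotientGroup.eq.2 (by
      have : phi g ∈ HH := phi_range ▸ ⟨g, rfl⟩
      simpa [mul_assoc] using this)
  have h1 := (xsums (Set.range f) (by rintro g _ ⟨m, rfl⟩; exact ⟨_, (f2 g m).symm⟩)).2.1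
  rw [Set.ncard_range_of_injective f1] at h1
  have h2 : Nat.card M ∣ 8835156 := by
    have a1 := Subgroup.relIndex_dvd_index_of_normal (H := M) (K := HH)
    have a2 : M.relIndex HH = 5859000000 := by
      rw [Subgroup.relIndex, h, Subgroup.index_bot, cardH]
    obtain ⟨c, hc⟩ := a1
    have a3 := M.index_mul_card
    rw [card, hc, a2] at a3
    exact ⟨c, by nlinarith⟩
  have h3 : ∀ d ∈ sums (szs (fun k => 5859000000 / mu k) 5), d ∣ 8835156 → d = 1 ∨ d = 8835156 := by decide +kernel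
  rcases h3 _ h1 h2 with h4 | h4
  · exact Subgroup.card_eq_one.1 h4
  exfalso
  have f3 : Function.Surjective f := ((Nat.bijective_iff_injective_and_card f).2 ⟨f1, h4.trans index.symm⟩).2
  choose m hm using fun k => f3 (xx k)
  have h5 : ∀ a : M, orderOf (a : Spor.Ly) ∈ (Finset.range 5).image fun k => orderOf (m k : Spor.Ly) := fun a => by
    obtain ⟨k, hk, g, e⟩ := xall (f a)
    rw [← hm, f2] at e
    refine Finset.mem_image.2 ⟨k, Finset.mem_range.2 hk, ?_⟩
    rw [f1 e]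
    exact (orderOf_injective (MulAut.conj (phi g)).toMonoidHom (MulAut.conj (phi g)).injective (m k)).symm
  have h6 : ({1, 2, 3, 11, 37, 67} : Finset ℕ) ⊆ (Finset.range 5).image fun k => orderOf (m k : Spor.Ly) := by
    have b : ∀ p : ℕ, p.Prime → p ∣ 8835156 → p ∈ (Finset.range 5).image fun k => orderOf (m k : Spor.Ly) :=
      fun p hp hd => by
        have := Fact.mk hp
        obtain ⟨a, ha⟩ := exists_prime_orderOf_dvd_card' (G := M) p (h4 ▸ hd)
        rw [← ha, ← Subgroup.orderOf_coe]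
        exact h5 a
    intro p hp
    simp only [Finset.mem_insert, Finset.mem_singleton] at hp
    rcases hp with rfl | rfl | rfl | rfl | rfl | rfl
    · simpa using h5 1
    all_goals exact b _ (by norm_num) (by norm_num)
  have h7 := (Finset.card_le_card h6).trans Finset.card_image_le
  revert h7
  decide

end Cfsg.Lib.Comp.Ly
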