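import Cfsg.Agent.Lib.Comp.Ly.Tab

set_option maxRecDepth 100000
set_option Elab.async false

namespace Cfsg.Lib.Comp.Ly

open Cfsg.Lib.MatB

theorem mrel3 : relB 12 111 mrd mtab [0] ((mR.drop 26).take 7) = true := by decide +kernel

theorem mrel4 : relB 12 111 mrd mtab [0] ((mR.drop 33).take 4) = true := by decide +kernel

theorem mrel10 : relB 12 111 mrd mtab [0] ((mR.drop 56).take 1) = true := by decide +kernel

theorem mrel13 : relB 12 111 mrd mtab [0] ((mR.drop 65).take 20) = true := by decide +kernel

end Cfsg.Lib.Comp.Ly
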