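import Cfsg.Agent.Lib.Comp.Ly.Tab

set_option maxRecDepth 100000
set_option Elab.async false

namespace Cfsg.Lib.Comp.Ly

open Cfsg.Lib.MatB

theorem mrel0 : relB 12 111 mrd mtab [0] ((mR.drop 0).take 8) = true := by decide +kernel

theorem mrel5 : relB 12 111 mrd mtab [0] ((mR.drop 37).take 7) = true := by decide +kernel

theorem mrel6 : relB 12 111 mrd mtab [0] ((mR.drop 44).take 5) = true := by decide +kernel

theorem mrel8 : relB 12 111 mrd mtab [0] ((mR.drop 54).take 1) = true := by decide +kernel

end Cfsg.Lib.Comp.Ly
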