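import Cfsg.Agent.Lib.Comp.Ly.Tab

set_option maxRecDepth 100000
set_option Elab.async false

namespace Cfsg.Lib.Comp.Ly

open Cfsg.Lib.MatB

theorem mrel2 : relB 12 111 mrd mtab [0] ((mR.drop 18).take 8) = true := by decide +kernel

theorem mrel9 : relB 12 111 mrd mtab [0] ((mR.drop 55).take 1) = true := by decide +kernel

theorem mrel12 : relB 12 111 mrd mtab [0] ((mR.drop 58).take 7) = true := by decide +kernel

theorem mrel14 : relB 12 111 mrd mtab [0] ((mR.drop 85).take 10) = true := by decide +kernel

end Cfsg.Lib.Comp.Ly
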