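import Cfsg.Agent.Lib.Comp.Ly.Rel0
import Cfsg.Agent.Lib.Comp.Ly.Rel1
import Cfsg.Agent.Lib.Comp.Ly.Rel2
import Cfsg.Agent.Lib.Comp.Ly.Rel3
import Cfsg.Agent.Lib.Comp.Ly.Bridge

/-! The representation of the Lyons group of degree 111 over `𝔽₅`. -/

set_option maxRecDepth 100000
set_option Elab.async false

namespace Cfsg.Lib.Comp

open Cfsg.Lib.MatB Cfsg.Lib.Mult Matrix

theorem units_of_rels {A : Type*} [Monoid A] {M : ℕ → A} {iv : ℕ → ℕ} {R Rz : List (List ℕ × ℕ)} {L : List ℕ}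
    (hc : SideOK iv R Rz L) (hR : ∀ r ∈ Rz, ev M r.1 ^ (r.2 + 1) = 1) (hiv : ∀ x ∈ L, x < 64 ∧ iv (iv x) = x) :
    ∃ δ : ℕ → Aˣ, IvOK δ iv ∧ Rels δ R ∧ ∀ x ∈ L, (δ x : A) = M x := by
  classical
  obtain ⟨c1, c2, c3⟩ := hc
  have a1 : ∀ x ∈ L, M x * M (iv x) = 1 := fun x hx => by
    simpa [ev_cons, ev_nil] using hR _ ((c2 x (hiv x hx).1).2.2 hx)
  have a2 : ∀ x ∈ L, M (iv x) * M x = 1 := fun x hx => by
    have := a1 _ ((c2 x (hiv x hx).1).2.1.1 hx)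
    rwa [(hiv x hx).2] at this
  let δ : ℕ → Aˣ := fun x => if h : x ∈ L then ⟨M x, M (iv x), a1 x h, a2 x h⟩ else 1
  have e : ∀ x ∈ L, (δ x : A) = M x := fun x hx => by simp only [δ, dif_pos hx]
  refine ⟨δ, ⟨dif_neg c1, fun x hx => ⟨(c2 x hx).1, ?_⟩⟩, fun r hr => Units.ext ?_, e⟩
  · by_cases hL : x ∈ L
    · refine Units.ext ?_
      rw [e _ ((c2 x hx).2.1.1 hL)]
      simp only [δ, dif_pos hL]
      rfl
    · simp only [δ, dif_neg hL, dif_neg (mt (c2 x hx).2.1.2 hL), inv_one]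
  · rw [Units.val_pow_eq_pow_val, show ((ev δ r.1 : Aˣ) : A) = ev (fun x => (δ x : A)) r.1 from ev_map δ (Units.coeHom A) r.1,
      ev_congr _ (γ' := M) fun x hx => e x ((c3 r hr).1 x hx)]
    exact hR r (c3 r hr).2

/-- Block triangular matrices. -/
def Blk {n : ℕ} {C : Type*} [Zero C] (k : ℕ) (A : Matrix (Fin n) (Fin n) C) : Prop :=
  ∀ i : Fin n, i.val < k → ∀ j : Fin n, k ≤ j.val → A i j = 0

instance {n : ℕ} {C : Type*} [Zero C] [DecidableEq C] (k : ℕ) (A : Matrix (Fin n) (Fin n) C) : Decidable (Blk k A) :=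
  @Nat.decidableForallFin n _ fun i => @forall_prop_decidable _ _ _ fun _ =>
    @Nat.decidableForallFin n (fun j => k ≤ j.val → A i j = 0) fun _ => inferInstance

theorem Blk.mul {n k : ℕ} {C : Type*} [CommRing C] {A B : Matrix (Fin n) (Fin n) C} (h : Blk k A) (h' : Blk k B) :
    Blk k (A * B) := fun i hi j hj => by
  rw [mul_apply]
  refine Finset.sum_eq_zero fun l _ => ?_
  rcases lt_or_ge l.val k with a | a
  · rw [h' l a j hj, mul_zero]
  · rw [h i hi l a, zero_mul]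

/-- The stabiliser of a coordinate subspace. -/
def blkG (n k : ℕ) (C : Type*) [CommRing C] : Subgroup (Matrix (Fin n) (Fin n) C)ˣ where
  carrier := {g | Blk k g.val ∧ Blk k g⁻¹.val}
  one_mem' := ⟨fun i hi j hj => one_apply_ne (by rintro rfl; omega), fun i hi j hj => one_apply_ne (by rintro rfl; omega)⟩
  mul_mem' := fun ha hb => ⟨ha.1.mul hb.1, by rw [_root_.mul_inv_rev]; exact hb.2.mul ha.2⟩
  inv_mem' := fun ha => ⟨ha.2, ha.1⟩

namespace Ly

noncomputable abbrev mM (x : ℕ) : Matrix (Fin 111) (Fin 111) (ZMod 5) := tm 12 111 0 Fin.val (mtab x)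

theorem mside : SideOK iv R mR L := by decide +kernel

theorem mrel : ∀ r ∈ mR, ∃ z ∈ [0], ev mM r.1 ^ (r.2 + 1) = mM z := fun r hr => by
  have e : ∀ r ∈ mR, ∃ p ∈ [(0, 8), (8, 10), (18, 8), (26, 7), (33, 4), (37, 7), (44, 5), (49, 5), (54, 1), (55, 1), (56, 1), (57, 1), (58, 7), (65, 20), (85, 10)], r ∈ (mR.drop p.1).take p.2 := by
    decide +kernel
  obtain ⟨p, hp, h⟩ := e r hr
  simp only [List.mem_cons, List.not_mem_nil, or_false] at hp
  rcases hp with rfl | rfl | rfl | rfl | rfl | rfl | rfl | rfl | rfl | rfl | rfl | rfl | rfl | rfl | rfl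
  exacts [mctx.rel mok mrel0 r h, mctx.rel mok mrel1 r h, mctx.rel mok mrel2 r h, mctx.rel mok mrel3 r h, mctx.rel mok mrel4 r h, mctx.rel mok mrel5 r h, mctx.rel mok mrel6 r h, mctx.rel mok mrel7 r h, mctx.rel mok mrel8 r h, mctx.rel mok mrel9 r h, mctx.rel mok mrel10 r h, mctx.rel mok mrel11 r h, mctx.rel mok mrel12 r h, mctx.rel mok mrel13 r h, mctx.rel mok mrel14 r h]

theorem mM0 : mM 0 = 1 := (ev_single mM 0).symm.trans (mctx.weq mok (u := [0]) (v := []) (by decide +kernel))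

theorem rho_ex : ∃ ρ : Spor.Ly →* (Matrix (Fin 111) (Fin 111) (ZMod 5))ˣ, ∀ x ∈ L, (ρ (gam x)).val = mM x := by
  obtain ⟨δ, h1, h2, h3⟩ := units_of_rels mside (M := mM) (fun r hr => by
    obtain ⟨z, hz, h⟩ := mrel r hr
    rw [h, List.mem_singleton.1 hz, mM0]) (by decide +kernel)
  obtain ⟨f, hf⟩ := gam_hom h1 h2
  exact ⟨f, fun x hx => by rw [hf x hx, h3 x hx]⟩

noncomputable def rho : Spor.Ly →* (Matrix (Fin 111) (Fin 111) (ZMod 5))ˣ := rho_ex.choose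

theorem rho_gam : ∀ x ∈ L, (rho (gam x)).val = mM x := rho_ex.choose_spec

theorem blk : ∀ x ∈ LN, x < 64 ∧ x ∈ L ∧ iv x ∈ L ∧ Blk 7 (mM x) ∧ Blk 7 (mM (iv x)) := by decide +kernel

theorem z_not : gam 23 ∉ cl gam LN := fun h => by
  have h1 : cl gam LN ≤ (blkG 111 7 (ZMod 5)).comap rho := cl_le.2 fun x hx => by
    obtain ⟨a1, a2, a3, a4, a5⟩ := blk x hx
    exact ⟨(rho_gam x a2).symm ▸ a4, by rw [← map_inv, ← (gam_iv.2 x a1).2, rho_gam _ a3]; exact a5⟩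
  have h2 := (h1 h).1
  rw [rho_gam 23 (by decide)] at h2
  exact absurd h2 (by decide +kernel)

theorem a_ne : gam 1 ≠ 1 := fun h => by
  have := rho_gam 1 (by decide)
  rw [h, map_one] at this
  have h2 : ∃ j : Fin 111, mM 1 0 j ≠ (1 : Matrix (Fin 111) (Fin 111) (ZMod 5)) 0 j := by decide +kernel
  obtain ⟨j, hj⟩ := h2
  exact hj (by rw [← this]; rfl)

end Ly

end Cfsg.Lib.Comp
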