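import Cfsg.Agent.Lib.Comp.Ly.SubD

set_option maxRecDepth 100000
set_option Elab.async false

namespace Cfsg.Lib.Comp.Ly

theorem md1 : ∀ i ∈ List.range 13, weq7 (apd (nth [] VU i) [1, 20]) (apd [1, 20] (nth [] VU i)) = true := by
  decide +kernel

theorem md2 : weq7 (xpd VM (pw [2, 6, 3, 6, 3, 7, 6, 4, 6, 4, 6, 1, 6, 7] 1)) [1, 20] = true := by decide +kernel

theorem md3 : weq7 [5] [3, 1, 17, 14, 6, 4, 5, 13, 20] = true := by decide +kernel

end Cfsg.Lib.Comp.Ly
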