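import Cfsg.Agent.Lib.Comp.Ly.Cent
import Cfsg.Agent.Lib.Comp.Ly.McD
import Cfsg.Agent.Lib.Comp.CovLem
import Cfsg.Agent.Lib.Comp.McLy.Main
import Cfsg.Agent.Lib.Comp.Big3
import Cfsg.Agent.S2132

/-! The centraliser of an element of order three in the Lyons group. -/

set_option maxRecDepth 100000
set_option maxHeartbeats 400000
set_option Elab.async false

namespace Cfsg.Lib.Comp.Ly

open MulAction Subgroup Cfsg.Lib.Linear Cfsg.Lib.Mult
open scoped commutatorElement

/-- The element `a a₂⁻¹` of order three. -/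
noncomputable def xe : Spor.Ly := ev gam [1, 20]

/-- The triple cover of the McLaughlin group. -/
noncomputable abbrev MM : Subgroup Spor.Ly := cl (sv gam VM) McLy.L

/-- The centraliser of `x`. -/
noncomputable abbrev CX : Subgroup Spor.Ly := centralizer {xe}

theorem rM : Rels (sv gam VM) RM := fun r hr => by
  have e : ∀ r ∈ RM, ∃ p ∈ [(0, 8), (8, 2), (10, 3), (13, 3), (16, 2), (18, 1), (19, 2), (21, 3), (24, 2), (26, 1),
      (27, 2), (29, 1), (30, 6)], r ∈ (RM.drop p.1).take p.2 := by decide +kernel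
  obtain ⟨p, hp, h⟩ := e r hr
  simp only [List.mem_cons, List.not_mem_nil, or_false] at hp
  rcases hp with rfl | rfl | rfl | rfl | rfl | rfl | rfl | rfl | rfl | rfl | rfl | rfl | rfl
  exacts [rels_of_rel7 mr0 r h, rels_of_rel7 mr1 r h, rels_of_rel7 mr2 r h, rels_of_rel7 mr3 r h,
    rels_of_rel7 mr4 r h, rels_of_rel7 mr5 r h, rels_of_rel7 mr6 r h, rels_of_rel7 mr7 r h, rels_of_rel7 mr8 r h,
    rels_of_rel7 mr9 r h, rels_of_rel7 mr10 r h, rels_of_rel7 mr11 r h, rels_of_rel7 mr12 r h]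

theorem VU_mem : ∀ i ∈ List.range 13, sv gam VU i ∈ CX := fun i hi =>
  mem_centralizer_singleton_iff.2 (comm_of (md1 i hi)).eq

theorem M_le : MM ≤ CX := cl_le.2 fun l hl => by
  have : ∀ l ∈ McLy.L, nth [] VM l = xpd VU (nth [] VM1 l) := by decide +kernel
  rw [sv, this l hl, ev_xpd]
  exact sv_mem VU_mem (V := VM1) (by decide +kernel) l

theorem t_M : tt ∈ MM := mem_cl (γ := sv gam VM) (x := 5) (by decide)

theorem x_comm : ⁅ev (sv gam VM) [2, 6, 3, 6, 3], ev (sv gam VM) [7, 6]⁆ ^ 2 = xe := by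
  have h := eq_of_weq7 md2
  have a1 := rM ([2, 1], 0) (by decide)
  have a2 := rM ([3, 4], 0) (by decide)
  have a3 := rM ([6], 1) (by decide)
  have a4 := rM ([7], 1) (by decide)
  rw [ev_xpd, ev_pw] at h
  simp only [ev_cons, ev_nil, mul_one, zero_add, pow_one, Nat.reduceAdd, pow_two, mul_eq_one_iff_inv_eq] at a1 a2 a3 a4
  refine Eq.trans ?_ h
  simp only [commutatorElement_def, ev_cons, ev_nil, mul_one, mul_inv_rev, a1, a2, a3, a4, mul_assoc]

theorem x_M : xe ∈ MM := x_comm ▸ pow_mem (by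
  have a : ∀ w : List ℕ, (∀ x ∈ w, x ∈ McLy.L) → ev (sv gam VM) w ∈ MM := fun w h => ev_mem fun x hx => mem_cl (h x hx)
  exact mul_mem (mul_mem (mul_mem (a _ (by decide)) (a _ (by decide))) (inv_mem (a _ (by decide))))
    (inv_mem (a _ (by decide)))) 2

theorem mcl_simple : IsSimpleGroup Spor.McL :=
  have := Cfsg.Lib.Leech.simple_sMcL
  Cfsg.Lib.Leech.mclEquiv.symm.isSimpleGroup

theorem mcl_card : Nat.card Spor.McL = 898128000 := (Nat.card_congr McLy.perm.some.toEquiv).trans McLy.card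

theorem mcl_center : center Spor.McL = ⊥ :=
  have := mcl_simple
  center_eq_bot (by rw [mcl_card]; norm_num)

theorem stemM : ∃ σ : MM →* Spor.McL, IsStemExtension σ ∧ Nat.card σ.ker = 3 := by
  obtain ⟨ε⟩ := McLy.perm
  have := mcl_simple
  have := ε.symm.isSimpleGroup
  have hc : CoverOK McLy.iv McLy.R RM McLy.L 9 3 [2, 6, 3, 6, 3] [7, 6] := by decide +kernel
  obtain ⟨σ, h1, h2⟩ := stem_of (McLy.nets_iv.sval _) (McLy.nets_rel.sval fun r hr x hx =>
    mem_cl ((hc.2.2.1 r hr).1 x hx)) McLy.ord McLy.lb (cl_sval_top _ McLy.L) rM hc (fun l hl => by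
      simp only [ev_cons, ev_nil, mul_one]; exact mem_centralizer_singleton_iff.1 (M_le (mem_cl hl))) x_comm (x := 1) (y := 5)
    (by decide) (by decide) (by
      rw [← ev_xpd, ← ev_xpd]; exact ne_of_wne (i := 0) (j := 2) (by decide +kernel))
  refine ⟨_, equiv_comp_stem h1 ε.symm, Eq.trans ?_ (h2.trans x_ord)⟩
  exact Nat.card_congr (Equiv.subtypeEquivRight fun x => ε.symm.map_eq_one_iff)

/-- The projection onto the McLaughlin group. -/
noncomputable def piM : MM →* Spor.McL := stemM.choose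

theorem piM_stem : IsStemExtension piM := stemM.choose_spec.1

theorem piM_ker : Nat.card piM.ker = 3 := stemM.choose_spec.2

theorem card_comap {G Q : Type*} [Group G] [Group Q] {f : G →* Q} (hf : Function.Surjective f) [Finite G]
    (K : Subgroup Q) : Nat.card (K.comap f) = Nat.card f.ker * Nat.card K := by
  have : Finite Q := Finite.of_surjective f hf
  have h1 := (K.comap f).card_mul_index
  have h2 := f.ker.card_mul_index
  rw [index_ker, MonoidHom.range_eq_top.2 hf, card_top, ← K.card_mul_index] at h2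
  rw [index_comap_of_surjective _ hf, ← h2, ← mul_assoc] at h1
  exact Nat.eq_of_mul_eq_mul_right (Nat.pos_of_ne_zero index_ne_zero_of_finite) h1

theorem card_M : Nat.card MM = 2694384000 := by
  have := card_comap piM_stem.1 ⊤
  rwa [comap_top, card_top, card_top, piM_ker, mcl_card] at this

theorem piM_ord {s : MM} (h : orderOf s = 2) : orderOf (piM s) = 2 := orderOf_eq_prime
  (by rw [← map_pow, ← h, pow_orderOf_eq_one, map_one]) fun e => by
    have := orderOf_dvd_natCard piM.ker e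
    rw [piM_ker, h] at this
    omega

theorem lift2 {u s : MM} (hu : orderOf u = 2) (hs : orderOf s = 2) (g : MM) (h : piM g * piM u * (piM g)⁻¹ = piM s) :
    g * u * g⁻¹ = s := eq_of_coprime_ker piM_stem.2.1 (p := 2) (by rw [piM_ker]; norm_num)
  (by rw [conj_pow, ← hu, pow_orderOf_eq_one, mul_one, mul_inv_cancel]) (hs ▸ pow_orderOf_eq_one s) (by simp [h])

theorem tM_ord : orderOf (⟨tt, t_M⟩ : MM) = 2 := (orderOf_coe _).symm.trans t_ord

theorem invM {s : Spor.Ly} (h : s ∈ MM) (hs : orderOf s = 2) : ∃ g ∈ MM, g * tt * g⁻¹ = s := by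
  have hs' : orderOf (⟨s, h⟩ : MM) = 2 := (orderOf_coe _).symm.trans hs
  obtain ⟨g, hg⟩ := isConj_iff.1 (Agent.S2132.result.1 _ _ (piM_ord tM_ord) (piM_ord hs'))
  obtain ⟨g, rfl⟩ := piM_stem.1 g
  exact ⟨g, g.2, congrArg Subtype.val (lift2 tM_ord hs' g hg)⟩

theorem card_cen_conj {G : Type*} [Group G] {a b : G} (h : IsConj a b) :
    Nat.card (centralizer {a}) = Nat.card (centralizer {b}) := by
  obtain ⟨g, rfl⟩ := isConj_iff.1 h
  refine Nat.card_congr ((MulAut.conj g).toEquiv.subtypeEquiv fun x => ?_)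
  rw [mem_centralizer_singleton_iff, mem_centralizer_singleton_iff, ← (MulAut.conj g).injective.eq_iff, map_mul, map_mul]
  rfl

theorem card_MT : 120960 ≤ Nat.card ↥(MM ⊓ CT) := by
  obtain ⟨h1, t, h2, h3, ⟨e⟩, -⟩ := Agent.S2132.result
  have h4 := (center (centralizer {t})).card_mul_index
  have h5 := two_mul_nat_card_alternatingGroup (α := Fin 8)
  rw [Nat.card_perm, Nat.card_eq_fintype_card (α := Fin 8), Fintype.card_fin,
    show Nat.factorial 8 = 40320 by decide +kernel] at h5
  rw [h3, index_eq_card, Nat.card_congr e.toEquiv, h5, card_cen_conj (h1 _ _ h2 (piM_ord tM_ord))] at h4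
  have h6 := card_comap piM_stem.1 (centralizer {piM ⟨tt, t_M⟩})
  rw [piM_ker, ← h4, ← card_map_of_injective MM.subtype_injective] at h6
  refine h6.ge.trans (card_le_of_le ?_)
  rintro _ ⟨g, hg, rfl⟩
  exact ⟨g.2, mem_centralizer_singleton_iff.2 (mul_inv_eq_iff_eq_mul.1 (congrArg Subtype.val (lift2 tM_ord tM_ord g
    (mul_inv_eq_iff_eq_mul.2 (mem_centralizer_singleton_iff.1 hg)))))⟩

theorem three_cycle : Equiv.Perm.IsThreeCycle (mooreGen 9 0 : Equiv.Perm (Fin 11)) :=
  card_support_eq_three_iff.1 (by decide +kernel)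

theorem card_cen3 : Nat.card (centralizer {(mooreGen 9 0 : alternatingGroup (Fin 11))}) ≤ 60480 := by
  have h1 := Equiv.Perm.nat_card_centralizer (mooreGen 9 0 : Equiv.Perm (Fin 11))
  rw [three_cycle.cycleType, show _ * _ * _ = 120960 by decide +kernel] at h1
  let K := (centralizer {(mooreGen 9 0 : alternatingGroup (Fin 11))}).map (alternatingGroup (Fin 11)).subtype
  have h2 : K ≤ centralizer {(mooreGen 9 0 : Equiv.Perm (Fin 11))} := by
    rintro _ ⟨g, hg, rfl⟩
    exact mem_centralizer_singleton_iff.2 (congrArg Subtype.val (mem_centralizer_singleton_iff.1 hg))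
  have h3 := (K.subgroupOf (centralizer {(mooreGen 9 0 : Equiv.Perm (Fin 11))})).card_mul_index
  rw [h1, Nat.card_congr (subgroupOfEquivOfLe h2).toEquiv, card_map_of_injective (subtype_injective _)] at h3
  have h4 : (K.subgroupOf (centralizer {(mooreGen 9 0 : Equiv.Perm (Fin 11))})).index ≠ 1 := fun h => by
    obtain ⟨g, -, e⟩ := subgroupOf_eq_top.1 (index_eq_one.1 h)
      (mem_centralizer_singleton_iff.2 (show Equiv.swap (3 : Fin 11) 4 * _ = _ by decide +kernel))
    have := g.2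
    rw [show (g : Equiv.Perm (Fin 11)) = _ from e] at this
    exact absurd (Equiv.Perm.mem_alternatingGroup.1 this) (by decide +kernel)
  have h5 : (K.subgroupOf (centralizer {(mooreGen 9 0 : Equiv.Perm (Fin 11))})).index ≠ 0 := index_ne_zero_of_finite
  nlinarith [Nat.lt_of_le_of_ne (Nat.one_le_iff_ne_zero.2 h5) h4.symm]

theorem XT_le : CX ⊓ CT ≤ MM := by
  have h1 := card_comap piA_stem.1 (centralizer {(mooreGen 9 0 : alternatingGroup (Fin 11))})
  rw [piA_ker, card_ZT, ← card_map_of_injective CT.subtype_injective] at h1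
  have h2 : CX ⊓ CT ≤ ((centralizer {(mooreGen 9 0 : alternatingGroup (Fin 11))}).comap piA).map CT.subtype :=
    fun g hg => ⟨⟨g, hg.2⟩, mem_centralizer_singleton_iff.2 (by
      rw [← piA_m 0, ← map_mul, ← map_mul]
      exact congrArg piA (Subtype.ext (mem_centralizer_singleton_iff.1 hg.1))), rfl⟩
  exact (eq_of_le_of_card_ge (inf_le_inf_right CT M_le) ((card_le_of_le h2).trans (h1.le.trans
    ((Nat.mul_le_mul_left 2 card_cen3).trans card_MT)))).ge.trans inf_le_left

theorem cenX : CX = MM := by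
  obtain ⟨S, hS⟩ := Sylow.exists_subgroup_card_pow_prime (G := MM) 2 (n := 7) (by rw [card_M]; norm_num)
  have h1 := dvd_of_free (S := S.map (inclusion M_le)) ((1 : CX) : CX ⧸ MM.subgroupOf CX)
    (by rintro ⟨_, s, -, rfl⟩; exact smul_one_of_mem.2 s.2) fun y hy => by
      by_contra hne
      have a1 := card_subgroup_dvd_card (stabilizer (S.map (inclusion M_le)) y)
      rw [card_map_of_injective (inclusion_injective _), hS, Nat.dvd_prime_pow Nat.prime_two] at a1
      obtain ⟨i, -, hi⟩ := a1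
      obtain ⟨⟨⟨_, s, hs, rfl⟩, hu⟩, h2⟩ := exists_prime_orderOf_dvd_card' (G := stabilizer (S.map (inclusion M_le)) y) 2
        (hi ▸ dvd_pow_self 2 fun e => hne (card_eq_one.1 (by rw [hi, e, pow_zero])))
      replace h2 : orderOf (s : Spor.Ly) = 2 := by
        rw [← h2, ← orderOf_coe, ← orderOf_coe, ← orderOf_coe]; rfl
      obtain ⟨c, rfl⟩ := QuotientGroup.mk_surjective y
      have a2 : (c : Spor.Ly)⁻¹ * (s * c) ∈ MM := mem_subgroupOf.1 (QuotientGroup.eq.1
        (show (c : CX ⧸ MM.subgroupOf CX) = (inclusion M_le s * c : CX) from hu.symm))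
      obtain ⟨g, hg, e1⟩ := invM s.2 h2
      obtain ⟨h, hh, e2⟩ := invM a2 (by
        rw [← h2, ← orderOf_injective (MulAut.conj (c : Spor.Ly)).toMonoidHom (MulAut.conj _).injective]
        simp [mul_assoc])
      have a3 : g⁻¹ * c * h ∈ MM := XT_le ⟨CX.mul_mem (CX.mul_mem (CX.inv_mem (M_le hg)) c.2) (M_le hh),
        mem_centralizer_singleton_iff.2 (by
          calc g⁻¹ * c * h * tt = g⁻¹ * c * (h * tt * h⁻¹) * h := by group
            _ = _ := by rw [e2, ← e1]; group)⟩
      exact hy (QuotientGroup.eq.2 (by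
        simpa [mem_subgroupOf] using (mul_mem_cancel_left (inv_mem hg)).1 ((mul_mem_cancel_right hh).1 a3)))
  have h2 := relIndex_mul_index M_le
  have h3 := MM.index_mul_card
  rw [card, card_M] at h3
  rw [card_map_of_injective (inclusion_injective _), hS] at h1
  rw [show MM.index = 7750 * 2479 from Nat.eq_of_mul_eq_mul_right (by norm_num) (h3.trans (by norm_num))] at h2
  obtain ⟨a, b, ha, hb, e⟩ := Nat.dvd_mul.1 ⟨_, h2.symm⟩
  have c1 : ∀ a < 7751, a ∣ 7750 → ∀ b ∈ [1, 37, 67, 2479], 128 ∣ a * b - 1 → a * b = 1 := by decide +kernel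
  have c2 : ∀ b < 2480, b ∣ 2479 → b ∈ [1, 37, 67, 2479] := by decide +kernel
  exact le_antisymm (relIndex_eq_one.1 (e ▸ c1 a (Nat.lt_succ_of_le (Nat.le_of_dvd (by norm_num) ha)) ha b
    (c2 b (Nat.lt_succ_of_le (Nat.le_of_dvd (by norm_num) hb)) hb) (e ▸ h1))) M_le

theorem center_M : center MM = piM.ker := le_antisymm (fun z hz => mem_bot.1 (mcl_center ▸ mem_center_iff.2 fun g => by
  obtain ⟨g, rfl⟩ := piM_stem.1 g
  rw [← map_mul, ← map_mul, mem_center_iff.1 hz g])) piM_stem.2.1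

end Cfsg.Lib.Comp.Ly
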