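import Cfsg.Agent.Lib.Comp.Ly.Fus
import Cfsg.Agent.S2119
import Cfsg.Agent.S2073

/-! Automorphisms of the Lyons group. -/

set_option maxRecDepth 100000
set_option maxHeartbeats 400000
set_option Elab.async false

namespace Cfsg.Lib.Comp.Ly

open MulAction Subgroup Cfsg.Lib.Linear Cfsg.Lib.Mult

/-- Automorphisms pass to central quotients. -/
theorem induced {G Q : Type*} [Group G] [Group Q] {f : G →* Q} (hf : IsStemExtension f) (hQ : center Q = ⊥)
    (φ : MulAut G) : ∃ τ : MulAut Q, ∀ g, τ (f g) = f (φ g) := by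
  have a : ∀ ψ : MulAut G, ∀ g, f g = 1 → f (ψ g) = 1 := fun ψ g hg => mem_bot.1 (hQ ▸ mem_center_iff.2 fun q => by
    obtain ⟨q, rfl⟩ := (hf.1.comp ψ.surjective) q
    simp only [Function.comp, ← map_mul, mem_center_iff.1 (hf.2.1 hg) q])
  have h : f.ker = (f.comp φ.toMonoidHom).ker := Subgroup.ext fun g => ⟨a φ g, fun h => by simpa using a φ⁻¹ _ h⟩
  refine ⟨(QuotientGroup.quotientKerEquivOfSurjective f hf.1).symm.trans ((QuotientGroup.quotientMulEquivOfEq h).trans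
    (QuotientGroup.quotientKerEquivOfSurjective _ (hf.1.comp φ.surjective))), fun g => ?_⟩
  rw [MulEquiv.trans_apply, show (QuotientGroup.quotientKerEquivOfSurjective f hf.1).symm (f g) = g from
    (MulEquiv.symm_apply_eq _).2 rfl]
  rfl

/-- Restriction to a centraliser. -/
theorem restrict {G : Type*} [Group G] (α : MulAut G) {z : G} (h : α z = z ∨ α z = z⁻¹) :
    ∃ φ : MulAut (centralizer {z}), ∀ u, (φ u : G) = α u := by
  have e : (centralizer {z}).map α.toMonoidHom = centralizer {z} := Subgroup.ext fun g => by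
    obtain ⟨g, rfl⟩ := α.surjective g
    refine (mem_map_iff_mem α.injective).trans ?_
    rw [mem_centralizer_singleton_iff, mem_centralizer_singleton_iff, ← α.injective.eq_iff, map_mul, map_mul]
    rcases h with h | h <;> rw [h]
    exact Commute.inv_right_iff
  exact ⟨(α.subgroupMap _).trans (MulEquiv.subgroupCongr e), fun _ => rfl⟩

theorem perfect_of {Q : Type} [Group Q] [IsSimpleGroup Q] (hc : center Q = ⊥) : Group.IsPerfect Q :=
  ⟨(IsSimpleGroup.eq_bot_or_eq_top_of_normal _ inferInstance).resolve_left fun h => by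
    rw [commutator_eq_bot_iff_center_eq_top, hc] at h
    exact bot_ne_top h⟩

theorem inner_lift {G Q : Type} [Group G] [Group Q] [IsSimpleGroup Q] {f : G →* Q} (hf : IsStemExtension f)
    (hQ : center Q = ⊥) {φ : MulAut G} {m : G} (h : ∀ g, f (φ g) = f m * f g * (f m)⁻¹) (g : G) :
    φ g = m * g * m⁻¹ :=
  DFunLike.congr_fun (lift_unique (perfect_of_stem hf (perfect_of hQ)) hf.2.1 (η := φ.toMonoidHom)
    (η' := (MulAut.conj m).toMonoidHom) (MonoidHom.ext fun g => by simpa using h g)) g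

theorem top_of {J : Subgroup Spor.Ly} (h1 : CT ≤ J) (h2 : CX ≤ J) : J = ⊤ := by
  have a : ∀ x ∈ LA, gam x ∈ J := fun x hx => h1 (LA_mem x hx)
  have i : ∀ x < 64, gam x ∈ J → gam (iv x) ∈ J := fun x hx h => (gam_iv.2 x hx).2 ▸ inv_mem h
  have c : gam 5 ∈ J := by
    rw [← ev_single gam, eq_of_weq7 md3, show [3, 1, 17, 14, 6, 4, 5, 13, 20] =
      xpd [[3, 1, 17], [14, 6], [4], [5, 13], [20]] [0, 1, 2, 3, 4] by decide +kernel, ev_xpd]
    refine ev_mem ?_
    simp only [List.forall_mem_cons]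
    exact ⟨ev_mem fun x hx => a x (by revert x; decide), h2 (VU_mem 7 (by decide)),
      ev_mem fun x hx => a x (by revert x; decide), h2 (VU_mem 6 (by decide)),
      ev_mem fun x hx => a x (by revert x; decide), by simp⟩
  have b : ∀ x ∈ 5 :: 6 :: LA, gam x ∈ J := List.forall_mem_cons.2 ⟨c, List.forall_mem_cons.2 ⟨i 5 (by norm_num) c, a⟩⟩
  have d : ∀ x w, (x :: w, 0) ∈ R → (∀ y ∈ w, y ∈ 5 :: 6 :: LA) → gam x ∈ J := fun x w h hw => by
    have := gam_rel _ h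
    rw [zero_add, pow_one, ev_cons, mul_eq_one_iff_eq_inv] at this
    exact this ▸ inv_mem (ev_mem fun y hy => b y (hw y hy))
  have e : ∀ x ∈ [9, 11, 13, 15], gam x ∈ J := by
    simp only [List.forall_mem_cons]
    exact ⟨d _ [8, 6, 8, 3, 2, 4, 6, 8, 2, 6, 1, 6, 2, 5, 1, 3, 3] (by decide +kernel) (by decide),
      d _ [2, 6, 1] (by decide +kernel) (by decide), d _ [4, 6, 3] (by decide +kernel) (by decide),
      d _ [3, 6, 4] (by decide +kernel) (by decide), by simp⟩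
  rw [eq_top_iff, ← gam_top]
  refine cl_le.2 fun x hx => ?_
  rcases (show x ∈ 5 :: 6 :: LA ∨ x ∈ [9, 11, 13, 15] ∨ ∃ y ∈ [9, 11, 13, 15], y < 64 ∧ iv y = x by
    revert x; decide +kernel) with h | h | ⟨y, h, h', rfl⟩
  exacts [b x h, e x h, i y h' (e y h)]

theorem aut_A {α : MulAut Spor.Ly} (h : α tt = tt) : ∃ (φ : MulAut CT) (π : Equiv.Perm (Fin 11)),
    (∀ u, (φ u : Spor.Ly) = α u) ∧ ∀ u, psi (φ u) = π * psi u * π⁻¹ := by
  obtain ⟨φ, hφ⟩ := restrict α (Or.inl h)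
  obtain ⟨τ, hτ⟩ := induced piA_stem center_A11 φ
  obtain ⟨π, rfl⟩ := (Agent.S2119.result 11 (by norm_num) (by norm_num)).2 τ
  exact ⟨φ, π, hφ, fun u => congrArg Subtype.val (hτ u).symm⟩

theorem psi_x : psi (mA 0) = mooreGen 9 0 := congrArg Subtype.val (piA_m 0)

theorem x_cube : mA 0 ^ 3 = 1 := Subtype.ext (x_ord ▸ pow_orderOf_eq_one (sv gam VA 0))

theorem lift3 {u : CT} (h1 : u ^ 3 = 1) (h2 : psi u = mooreGen 9 0) : u = mA 0 :=
  eq_of_coprime_ker piA_stem.2.1 (p := 3) (by rw [piA_ker, card_ZT]; norm_num) h1 x_cube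
    (Subtype.ext (h2.trans psi_x.symm))

theorem aut1 (α : MulAut Spor.Ly) : ∃ g, (MulAut.conj g * α : MulAut Spor.Ly) tt = tt ∧
    (MulAut.conj g * α : MulAut Spor.Ly) xe = xe := by
  obtain ⟨g, hg⟩ := isConj_iff.1 (one_class (s := α tt) (by rw [← map_mul, t_sq, map_one])
    (by rw [Ne, map_eq_one_iff α α.injective]; exact t_ne)).symm
  obtain ⟨φ, π, h1, h2⟩ := aut_A (α := MulAut.conj g * α) hg
  obtain ⟨k, hk⟩ := isConj_iff.1 (alternatingGroup.isThreeCycle_isConj (by simp) (σ := piA (φ (mA 0)))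
    (τ := mooreGen 9 0) (by
      change Equiv.Perm.IsThreeCycle (psi (φ (mA 0)))
      rw [h2, psi_x]
      exact (Equiv.Perm.cycleType_conj).trans three_cycle) three_cycle)
  obtain ⟨k, rfl⟩ := piA_stem.1 k
  have h3 := congrArg Subtype.val (lift3 (u := k * φ (mA 0) * k⁻¹)
    (by rw [conj_pow, ← map_pow, x_cube, map_one, mul_one, mul_inv_cancel])
    (by rw [map_mul, map_mul, map_inv]; exact congrArg Subtype.val hk))
  refine ⟨k * g, ?_, ?_⟩
  · rw [map_mul, mul_assoc, MulAut.mul_apply, show (MulAut.conj g * α) tt = tt from hg, MulAut.conj_apply, ct,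
      mul_inv_cancel_right]
  · rw [map_mul, mul_assoc, MulAut.mul_apply, show (MulAut.conj g * α) xe = _ from (h1 (mA 0)).symm]
    exact h3

theorem aut_M {α : MulAut Spor.Ly} (h : α xe = xe) : ∃ m ∈ CX, ∀ u ∈ CX, α u = m * u * m⁻¹ := by
  have := mcl_simple
  have r : ∀ β : MulAut Spor.Ly, β xe = xe ∨ β xe = xe⁻¹ → ∃ φ : MulAut MM, ∀ u, (φ u : Spor.Ly) = β u :=
    fun β h => cenX ▸ restrict β h
  have n : MulAut.conj (gam 1) xe = xe⁻¹ := by
    have := eq_of_weq7 (u := [1, 20, 1, 1, 20]) (v := [1]) (by decide +kernel)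
    simp only [ev_cons, ev_nil, mul_one] at this
    rw [MulAut.conj_apply, mul_inv_eq_iff_eq_mul, eq_inv_mul_iff_mul_eq]
    simpa only [xe, ev_cons, ev_nil, mul_one, mul_assoc] using this
  have x1 : xe⁻¹ ≠ xe := fun e => by
    have := orderOf_dvd_of_pow_eq_one (show xe ^ 2 = 1 by rw [pow_two, ← eq_inv_iff_mul_eq_one, e])
    rw [show orderOf xe = 3 from x_ord] at this
    omega
  obtain ⟨φ, hφ⟩ := r α (Or.inl h)
  obtain ⟨ν, hν⟩ := r _ (Or.inr n)
  obtain ⟨τ, hτ⟩ := induced piM_stem mcl_center φ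
  obtain ⟨ω, hω⟩ := induced piM_stem mcl_center ν
  have k : ∀ (φ : MulAut MM) (τ : MulAut Spor.McL), (∀ g, τ (piM g) = piM (φ g)) → τ ∈ Inn Spor.McL →
      ∃ m : MM, ∀ g, φ g = m * g * m⁻¹ := by
    rintro φ _ h ⟨m, rfl⟩
    obtain ⟨m, rfl⟩ := piM_stem.1 m
    exact ⟨m, inner_lift piM_stem mcl_center fun g => (h g).symm⟩
  have k' : ∀ (φ : MulAut MM) (τ : MulAut Spor.McL), (∀ g, τ (piM g) = piM (φ g)) →
      (φ ⟨xe, x_M⟩ : Spor.Ly) = xe⁻¹ → τ ∉ Inn Spor.McL := fun φ τ a b c => by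
    obtain ⟨m, hm⟩ := k φ τ a c
    rw [hm] at b
    exact x1 (b.symm.trans (mul_inv_eq_iff_eq_mul.2 (mem_centralizer_singleton_iff.1 (M_le m.2))))
  have a1 := k' ν ω hω ((hν _).trans n)
  have a2 := k' (φ * ν) (τ * ω) (fun g => by rw [MulAut.mul_apply, hω, hτ, MulAut.mul_apply])
    (by rw [MulAut.mul_apply, hφ, hν, show MulAut.conj (gam 1) _ = xe⁻¹ from n, map_inv, h])
  rw [mul_mem_iff_of_index_two (show (Inn Spor.McL).index = 2 from Agent.S2073.result)] at a2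
  obtain ⟨m, hm⟩ := k φ τ hτ (by tauto)
  exact ⟨m, M_le m.2, fun u hu => (hφ ⟨u, cenX.le hu⟩).symm.trans (congrArg Subtype.val (hm _))⟩

theorem cent_perm {π : Equiv.Perm (Fin 11)} (h : ∀ σ : alternatingGroup (Fin 11), σ * mooreGen 9 0 = mooreGen 9 0 * σ →
    π * σ = σ * π) : ∃ i < 3, π = (mooreGen 9 0 : Equiv.Perm (Fin 11)) ^ i := by
  let c : Fin 11 → Equiv.Perm (Fin 11) := fun k => Equiv.swap 3 k * Equiv.swap 3 4
  have a : ∀ k : Fin 11, 5 ≤ k.val → ∀ p, π (c k p) = c k (π p) := fun k hk p => by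
    have b : ∀ k : Fin 11, 5 ≤ k.val → Equiv.Perm.sign (c k) = 1 ∧ c k * mooreGen 9 0 = mooreGen 9 0 * c k := by
      decide +kernel
    exact DFunLike.congr_fun (h ⟨_, (b k hk).1⟩ (Subtype.ext (b k hk).2)) p
  have b : ∀ p, π ((mooreGen 9 0 : Equiv.Perm (Fin 11)) p) = (mooreGen 9 0 : Equiv.Perm (Fin 11)) (π p) :=
    DFunLike.congr_fun (h _ rfl)
  have h3 : π 3 = 3 := (show ∀ q : Fin 11, c 5 q = c 6 q → c 5 q ≠ q → q = 3 by decide +kernel) _
    ((a 5 (by decide) 3).symm.trans (a 6 (by decide) 3))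
    fun e => absurd (π.injective ((a 5 (by decide) 3).trans e)) (by decide +kernel)
  have h4 : π 4 = 4 := by have := a 5 (by decide) 3; rwa [h3] at this
  have h5 : ∀ k : Fin 11, 3 ≤ k.val → π k = k := fun k hk => by
    rcases (show k = 3 ∨ k = 4 ∨ (5 ≤ k.val ∧ c k 4 = k) by revert k; decide +kernel) with rfl | rfl | ⟨a1, a2⟩
    exacts [h3, h4, by have := a k a1 4; rwa [h4, a2] at this]
  obtain ⟨i, hi, e⟩ := (show ∀ q : Fin 11, (mooreGen 9 0 : Equiv.Perm (Fin 11)) q ≠ q →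
    ∃ i < 3, q = ((mooreGen 9 0 : Equiv.Perm (Fin 11)) ^ i) 0 by decide +kernel) (π 0)
    fun e => absurd (π.injective ((b 0).trans e)) (by decide +kernel)
  refine ⟨i, hi, Equiv.ext fun p => ?_⟩
  have m : ∀ p, π p = ((mooreGen 9 0 : Equiv.Perm (Fin 11)) ^ i) p → π ((mooreGen 9 0 : Equiv.Perm (Fin 11)) p) =
      ((mooreGen 9 0 : Equiv.Perm (Fin 11)) ^ i) ((mooreGen 9 0 : Equiv.Perm (Fin 11)) p) := fun p e => by
    rw [b, e, ← Equiv.Perm.mul_apply, ← Equiv.Perm.mul_apply, ← pow_succ, ← pow_succ']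
  rcases (show p = 0 ∨ p = 1 ∨ p = 2 ∨ (3 ≤ p.val ∧ ∀ i < 3, ((mooreGen 9 0 : Equiv.Perm (Fin 11)) ^ i) p = p) by
    revert p; decide +kernel) with rfl | rfl | rfl | ⟨a1, a2⟩
  exacts [e, m 0 e, m 1 (m 0 e), (h5 p a1).trans (a2 i hi).symm]

theorem inner (α : MulAut Spor.Ly) : ∃ g, MulAut.conj g * α = 1 := by
  have : IsSimpleGroup (alternatingGroup (Fin 11)) := alternatingGroup.isSimpleGroup (by simp)
  obtain ⟨g, -, g2⟩ := aut1 α
  obtain ⟨m, -, hm⟩ := aut_M g2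
  have b : ∀ u ∈ CX, (MulAut.conj (m⁻¹ * g) * α) u = u := fun u hu => by
    rw [map_mul, mul_assoc, MulAut.mul_apply, hm u hu, MulAut.conj_apply]; group
  obtain ⟨φ, π, h1, h2⟩ := aut_A (b tt (M_le t_M))
  obtain ⟨i, -, rfl⟩ := cent_perm (π := π) fun σ hσ => by
    obtain ⟨u, rfl⟩ := piA_stem.1 σ
    have a := lift3 (u := u * mA 0 * u⁻¹) (by rw [conj_pow, x_cube, mul_one, mul_inv_cancel])
      (by rw [map_mul, map_mul, map_inv, psi_x, mul_inv_eq_iff_eq_mul]; exact congrArg Subtype.val hσ)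
    have c := h2 u
    rw [show φ u = u from Subtype.ext ((h1 u).trans (b u (mem_centralizer_singleton_iff.2
      (congrArg Subtype.val (mul_inv_eq_iff_eq_mul.1 a)))))] at c
    exact (eq_mul_inv_iff_mul_eq.1 c).symm
  have c := inner_lift piA_stem center_A11 (φ := φ) (m := mA 0 ^ i) fun u => Subtype.ext (by
    rw [map_pow, show piA (mA 0) = _ from piA_m 0]; exact h2 u)
  refine ⟨(xe ^ i)⁻¹ * (m⁻¹ * g), MulEquiv.ext fun u => ?_⟩
  have e := top_of (J := MonoidHom.eqLocus (MulAut.conj ((xe ^ i)⁻¹ * (m⁻¹ * g)) * α).toMonoidHom (MonoidHom.id _))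
    (fun u hu => ?_) fun u hu => ?_
  · exact (e ▸ mem_top u :)
  all_goals
    change (MulAut.conj ((xe ^ i)⁻¹ * (m⁻¹ * g)) * α) u = u
    rw [map_mul, mul_assoc, MulAut.mul_apply, MulAut.conj_apply]
  · rw [← h1 ⟨u, hu⟩, c]
    change (xe ^ i)⁻¹ * (xe ^ i * u * (xe ^ i)⁻¹) * _ = u
    group
  · rw [b u hu, ← ((show Commute u xe from mem_centralizer_singleton_iff.1 hu).pow_right i).inv_right.eq,
      mul_inv_cancel_right]

theorem out_one : Nat.card (Out Spor.Ly) = 1 :=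
  card_out_eq_one (card_out_le_of [()] (fun β _ => β = 1) (fun α => (inner α).imp fun _ h => ⟨(), by simp, h⟩)
    fun _ _ _ a b => a.trans b.symm)

end Cfsg.Lib.Comp.Ly
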