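import Cfsg.Agent.Lib.Comp.Ly.W7

set_option maxRecDepth 100000
set_option Elab.async false

namespace Cfsg.Lib.Comp.Ly

/-- Elements commuting with `x`. -/
def VU : List (List ℕ) := [[7],
 [8],
 [17],
 [18],
 [23],
 [24],
 [5,13],
 [14,6],
 [13,5],
 [6,14],
 [1,20],
 [19,2],
 [1,1,1,1]]

def VM1 : List (List ℕ) := [[],
 [6,1,8,6,0,8],
 [9,1,7,9,0,7],
 [5,6,5,6,1,4,0,4,7,4,7,4],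
 [5,6,5,6,5,1,5,0,7,4,7,4],
 [12],
 [2,1,5,0,9,5,0,6,4,7,5,1,7,1,5,11],
 [5,6,0,9,4,6,5,0,2,4,7,10],
 [3,1,4,6,3,0,9,4,6,4,1,5,7,1,2,10],
 [10]]

/-- Lifts of the generators of the McLaughlin group. -/
def VM : List (List ℕ) := [[],
 [5,13,8,13,5,5,13,7,13,5],
 [6,14,8,14,6,6,14,7,14,6],
 [24,5,13,24,5,13,8,23,7,23,14,6,23,14,6,23],
 [24,5,13,24,5,13,24,8,24,7,14,6,23,14,6,23],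
 [1,1,1,1],
 [17,8,24,7,6,14,24,7,5,13,23,14,6,24,8,14,6,8,24,19,2],
 [24,5,13,7,6,14,23,5,13,24,7,17,23,14,6,1,20],
 [18,8,23,5,13,18,7,6,14,23,5,13,23,8,24,14,6,8,17,1,20],
 [1,20]]

def RM : List (List ℕ × ℕ) := [([3],2),
 ([1],3),
 ([1,3,2,3],0),
 ([5],1),
 ([1,5],1),
 ([3,5,3,5,4,5,4,5],0),
 ([6],1),
 ([1,6],1),
 ([5,6],1),
 ([3,6],5),
 ([3,6,4,5],2),
 ([1,1,6,4,5,4,6,4,5,4,6,4,5,4],0),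
 ([7],1),
 ([5,7],1),
 ([6,7],2),
 ([1,7],3),
 ([1,1,7,2,7,1,7,1,7,2,7],0),
 ([3,7],5),
 ([1,1,3,6,3,6,7,6,3,6,7,1,1,7,6,3,6,7,9,9],0),
 ([1,3,6,4,7,1,6,4,7,6,3,2,7,6,2,7,4,6,2,7,9],0),
 ([8],1),
 ([1,8],1),
 ([5,8],1),
 ([6,8],3),
 ([3,8],5),
 ([3,8,4,5],2),
 ([1,3,6,3,8,4,6,4,8,3,6,3,8],0),
 ([3,5,3,5,6,4,5,4,8,4,6,4,5,3,6,3,8],0),
 ([7,8],2),
 ([1,6,7,8,4,6,7,1,8,7,6,3,8,7],0),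
 ([1,7,2,7,8,7,1,7,2,7,8,7,1,7,8],0),
 ([1,2],0),
 ([3,4],0),
 ([2,1],0),
 ([4,3],0),
 ([9],2)]

/-- Lifts of Moore's generators of `A₁₁`, and the involution `t`. -/
def VA : List (List ℕ) := [[1,20],
 [1,19,1,21,19,2],
 [3,1,22,4],
 [19,24],
 [19,23,7,23,7,24],
 [19,17,7,23,7,23,7,17,23],
 [7,19,23,7,23,7,23],
 [17,7,19,23,7,23,7,24,18],
 [7,19,23,7,23,7,24],
 [1,1,1,1]]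

def RA0 : List (List ℕ × ℕ) := [([0],2),
 ([1],1),
 ([2],1),
 ([3],1),
 ([4],1),
 ([5],1),
 ([6],1),
 ([7],1),
 ([8],1),
 ([0,1],2),
 ([1,2],2),
 ([2,3],2),
 ([3,4],2),
 ([4,5],2),
 ([5,6],2),
 ([6,7],2),
 ([7,8],2),
 ([0,2],1),
 ([0,3],1),
 ([1,3],1),
 ([0,4],1),
 ([1,4],1),
 ([2,4],1),
 ([0,5],1),
 ([1,5],1),
 ([2,5],1),
 ([3,5],1),
 ([0,6],1),
 ([1,6],1),
 ([2,6],1),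
 ([3,6],1),
 ([4,6],1),
 ([0,7],1),
 ([1,7],1),
 ([2,7],1),
 ([3,7],1),
 ([4,7],1),
 ([5,7],1),
 ([0,8],1),
 ([1,8],1),
 ([2,8],1),
 ([3,8],1),
 ([4,8],1),
 ([5,8],1),
 ([6,8],1)]

def RA : List (List ℕ × ℕ) := [([0],2),
 ([1,1,9],0),
 ([2,2,9],0),
 ([3,3,9],0),
 ([4,4,9],0),
 ([5,5,9],0),
 ([6,6,9],0),
 ([7,7,9],0),
 ([8,8,9],0),
 ([0,1],2),
 ([1,2],2),
 ([2,3,2,3,2,3,9],0),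
 ([3,4],2),
 ([4,5,4,5,4,5,9],0),
 ([5,6],2),
 ([6,7],2),
 ([7,8,7,8,7,8,9],0),
 ([0,2,0,2,9],0),
 ([0,3,0,3,9],0),
 ([1,3,1,3,9],0),
 ([0,4,0,4,9],0),
 ([1,4,1,4,9],0),
 ([2,4,2,4,9],0),
 ([0,5,0,5,9],0),
 ([1,5,1,5,9],0),
 ([2,5,2,5,9],0),
 ([3,5,3,5,9],0),
 ([0,6,0,6,9],0),
 ([1,6,1,6,9],0),
 ([2,6,2,6,9],0),
 ([3,6,3,6,9],0),
 ([4,6,4,6,9],0),
 ([0,7,0,7,9],0),
 ([1,7,1,7,9],0),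
 ([2,7,2,7,9],0),
 ([3,7,3,7,9],0),
 ([4,7,4,7,9],0),
 ([5,7,5,7,9],0),
 ([0,8,0,8,9],0),
 ([1,8,1,8,9],0),
 ([2,8,2,8,9],0),
 ([3,8,3,8,9],0),
 ([4,8,4,8,9],0),
 ([5,8,5,8,9],0),
 ([6,8,6,8,9],0)]

def LA : List ℕ := [1,2,3,4,7,8,17,18,19,20,21,22,23,24]

end Cfsg.Lib.Comp.Ly
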