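import Cfsg.Agent.Lib.Comp.Ly.SubD

set_option maxRecDepth 100000
set_option Elab.async false

namespace Cfsg.Lib.Comp.Ly

theorem mr2 : rel7 VM ((RM.drop 10).take 3) = true := by decide +kernel

theorem mr0 : rel7 VM ((RM.drop 0).take 8) = true := by decide +kernel

theorem mr12 : rel7 VM ((RM.drop 30).take 6) = true := by decide +kernel

theorem mr9 : rel7 VM ((RM.drop 26).take 1) = true := by decide +kernel

end Cfsg.Lib.Comp.Ly
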