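import Cfsg.Agent.Lib.Comp.Ly.Main
import Cfsg.Agent.Lib.Comp.Subst3

/-! Equality of words in the Lyons group, tested on seven vectors. -/

set_option maxRecDepth 100000
set_option Elab.async false
set_option maxHeartbeats 400000

namespace Cfsg.Lib.Comp

open Cfsg.Lib.MatB Cfsg.Lib.Mult Matrix MulAction

/-- Vectors in the span of the first `k` basis vectors. -/
def SpK {n : ℕ} {C : Type*} [Zero C] (k : ℕ) (v : Fin n → C) : Prop := ∀ j : Fin n, k ≤ j.val → v j = 0

theorem SpK.mul {n k : ℕ} {C : Type*} [CommRing C] {v : Fin n → C} (hv : SpK k v) {A : Matrix (Fin n) (Fin n) C}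
    (h : Blk k A) : SpK k (v ᵥ* A) := fun j hj => by
  rw [vecMul_eq_sum, Finset.sum_apply]
  refine Finset.sum_eq_zero fun i _ => ?_
  rw [Pi.smul_apply, smul_eq_mul]
  change v i * A i j = 0
  rcases lt_or_ge i.val k with a | a
  · rw [h i a j hj, mul_zero]
  · rw [hv i a, zero_mul]

theorem SpK.eq {n k : ℕ} {C : Type*} [CommRing C] {v : Fin n → C} (hv : SpK k v) {A B : Matrix (Fin n) (Fin n) C}
    (h : ∀ i : Fin n, i.val < k → ∀ j, A i j = B i j) : v ᵥ* A = v ᵥ* B := by
  rw [vecMul_eq_sum, vecMul_eq_sum]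
  refine Finset.sum_congr rfl fun i _ => ?_
  rcases lt_or_ge i.val k with a | a
  · exact congrArg _ (funext (h i a))
  · rw [hv i a, zero_smul, zero_smul]

namespace Ly

theorem eq_or_top {K : Subgroup Spor.Ly} (h : HH ≤ K) : K = HH ∨ K = ⊤ := by
  have h1 := (xsums (orbit K ((1 : Spor.Ly) : Spor.Ly ⧸ HH)) (by
    rintro g _ ⟨k, rfl⟩
    exact ⟨⟨phi g, h (phi_range ▸ ⟨g, rfl⟩)⟩ * k, mul_smul _ _ _⟩)).2.1
  have h2 : stabilizer K ((1 : Spor.Ly) : Spor.Ly ⧸ HH) = HH.subgroupOf K := Subgroup.ext fun k => smul_one_of_mem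
  rw [← index_stabilizer, h2] at h1
  have h3 := Subgroup.relIndex_mul_index h
  rw [index] at h3
  have h4 : ∀ d ∈ sums (szs (fun k => 5859000000 / mu k) 5), d ∣ 8835156 → d = 1 ∨ d = 8835156 := by decide +kernel
  rcases h4 _ h1 ⟨_, h3.symm⟩ with a | a
  · exact Or.inl (le_antisymm (Subgroup.relIndex_eq_one.1 a) h)
  · rw [show HH.relIndex K = 8835156 from a] at h3
    exact Or.inr (Subgroup.index_eq_one.1 (by omega))

theorem blk_eq : (blkG 111 7 (ZMod 5)).comap rho = HH := by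
  refine (eq_or_top (cl_le.2 fun x hx => ?_)).resolve_right fun h => ?_
  · obtain ⟨a1, a2, a3, a4, a5⟩ := blk x hx
    exact ⟨(rho_gam x a2).symm ▸ a4, by rw [← map_inv, ← (gam_iv.2 x a1).2, rho_gam _ a3]; exact a5⟩
  · have h2 := (show gam 23 ∈ (blkG 111 7 (ZMod 5)).comap rho from h ▸ Subgroup.mem_top _).1
    rw [rho_gam 23 (by decide)] at h2
    exact absurd h2 (by decide +kernel)

/-- The pointwise stabiliser of the span. -/
def P7 : Subgroup Spor.Ly where
  carrier := {g | ∀ v, SpK 7 v → v ᵥ* (rho g).val = v}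
  one_mem' := fun v _ => by rw [map_one, Units.val_one, vecMul_one]
  mul_mem' := fun ha hb v hv => by rw [map_mul, Units.val_mul, ← vecMul_vecMul, ha v hv, hb v hv]
  inv_mem' := fun {a} ha v hv => by
    conv_lhs => rw [← ha v hv]
    rw [vecMul_vecMul, ← Units.val_mul, ← map_mul, mul_inv_cancel, map_one, Units.val_one, vecMul_one]

theorem sp_single {i : Fin 111} (hi : i.val < 7) : SpK 7 (Pi.single i 1 : Fin 111 → ZMod 5) := fun j hj =>
  Pi.single_eq_of_ne (by rintro rfl; omega) _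

theorem P7_blk {g : Spor.Ly} (h : g ∈ P7) : Blk 7 (rho g).val := fun i hi j hj => by
  have := congrFun (h _ (sp_single hi)) j
  rw [single_vecMul, sp_single hi j hj] at this
  simpa using this

theorem P7_bot : P7 = ⊥ := by
  have h1 : P7 ≤ HH := fun g hg => blk_eq ▸ ⟨P7_blk hg, by rw [← map_inv]; exact P7_blk (inv_mem hg)⟩
  have h2 : (P7.subgroupOf HH).Normal := ⟨fun p hp h v hv => by
    have a : (h : Spor.Ly) ∈ (blkG 111 7 (ZMod 5)).comap rho := blk_eq.symm ▸ h.2
    have b : (p : Spor.Ly) ∈ P7 := hp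
    change v ᵥ* (rho ((h : Spor.Ly) * p * (h : Spor.Ly)⁻¹)).val = v
    rw [map_mul, map_mul, Units.val_mul, Units.val_mul, ← vecMul_vecMul, ← vecMul_vecMul, b _ (hv.mul a.1),
      vecMul_vecMul, ← Units.val_mul, ← map_mul, mul_inv_cancel, map_one, Units.val_one, vecMul_one]⟩
  have := simpleH
  rcases IsSimpleGroup.eq_bot_or_eq_top_of_normal _ h2 with h | h
  · exact (Subgroup.subgroupOf_eq_bot.1 h).eq_bot_of_le h1
  · have a := Subgroup.subgroupOf_eq_top.1 h (mem_cl (by decide : 1 ∈ LN)) _ (sp_single (i := 0) (by decide))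
    rw [rho_gam 1 (by decide), single_vecMul] at a
    have h2 : ∃ j : Fin 111, mM 1 0 j ≠ (1 : Matrix (Fin 111) (Fin 111) (ZMod 5)) 0 j := by decide +kernel
    obtain ⟨j, hj⟩ := h2
    exact absurd (by simpa [one_apply, Pi.single_apply, eq_comm] using congrFun a j) hj

theorem rho_ev {u : List ℕ} (h : subB u L = true) : (rho (ev gam u)).val = ev mM u :=
  (ev_map gam ((Units.coeHom _).comp rho) u).trans (ev_congr _ fun x hx => rho_gam x (sub_of_subB h x hx))

theorem act_row (u : List ℕ) (i j : Fin 111) :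
    ent 12 111 (0 : ZMod 5) (act 12 mrd mtab u (Nat.shiftLeft 1 (Nat.mul 12 i))) j = ev mM u i j := by
  have u1 : Rp 12 (bs 111 (0 : ZMod 5) (Fin.val : Fin 111 → ℕ)) 111 _ _ 1 := Rp.unit (j := i) i.2
  have h3 : 1 < 2 ^ 12 := by norm_num
  rw [← mctx.vval_bs, mctx.act mok u fun j => (look_le_of_rp u1 h3 j).trans (by norm_num), u1.val h3, mctx.bs_lo,
    single_vecMul]
  simp

/-- Two words agree on the first seven basis vectors. -/
noncomputable def weq7 (u v : List ℕ) : Bool :=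
  cnd (subB u L) (cnd (subB v L) (allN 7 fun j => force (Nat.shiftLeft 1 (Nat.mul 12 j)) fun b =>
    Nat.beq (act 12 mrd mtab u b) (act 12 mrd mtab v b)) false) false

theorem eq_of_weq7 {u v : List ℕ} (h : weq7 u v = true) : ev gam u = ev gam v := by
  simp only [weq7, cnd_tt, allN_iff, force_eq, beq_tt] at h
  obtain ⟨h1, h2, h3⟩ := h
  rw [← mul_inv_eq_one, ← Subgroup.mem_bot, ← P7_bot]
  intro w hw
  have e : w ᵥ* ev mM u = w ᵥ* ev mM v := hw.eq fun i a j => by rw [← act_row, ← act_row, h3 i a]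
  rw [map_mul, Units.val_mul, ← vecMul_vecMul, rho_ev h1, e, ← rho_ev h2, vecMul_vecMul, ← Units.val_mul, ← map_mul,
    mul_inv_cancel, map_one, Units.val_one, vecMul_one]

/-- Two words differ in the entry `(i, j)`. -/
noncomputable def wne (u v : List ℕ) (i j : Fin 111) : Bool :=
  cnd (subB u L) (cnd (subB v L) (force (Nat.shiftLeft 1 (Nat.mul 12 i)) fun b => decide
    (ent 12 111 (0 : ZMod 5) (act 12 mrd mtab u b) j ≠ ent 12 111 (0 : ZMod 5) (act 12 mrd mtab v b) j)) false) false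

theorem ne_of_wne {u v : List ℕ} {i j : Fin 111} (h : wne u v i j = true) : ev gam u ≠ ev gam v := fun e => by
  simp only [wne, cnd_tt, force_eq, decide_eq_true_eq] at h
  exact h.2.2 (by rw [act_row, act_row, ← rho_ev h.1, e, rho_ev h.2.1])

/-- Relators after a substitution. -/
noncomputable def rel7 (V : List (List ℕ)) (R : List (List ℕ × ℕ)) : Bool :=
  allL R fun r => weq7 (frd iv (xpd V (pw r.1 r.2))) []

theorem rels_of_rel7 {V : List (List ℕ)} {R : List (List ℕ × ℕ)} (h : rel7 V R = true) : Rels (sv gam V) R :=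
  fun r hr => by rw [← ev_pw, ← ev_xpd, ← ev_frd gam_iv, eq_of_weq7 (allL_iff.1 h r hr), ev_nil]

end Ly

end Cfsg.Lib.Comp
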